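import Groth.Agent.L20.FlatLocusOpen
import Groth.Agent.L20.FlatAtBaseChange
import Mathlib.LinearAlgebra.TensorProduct.Tower
import Mathlib.RingTheory.Ideal.GoingUp
import Mathlib.RingTheory.Flat.Stability
import Mathlib.RingTheory.TensorProduct.Quotient

/-!
Elementary transfer lemmas for the valuative criterion of flatness (EGA IV 11.6, 11.8): torsion at a prime of a
base change to a discrete valuation ring, and descent of flatness along flat and integral maps.
-/

universe u

open TensorProduct

namespace Groth.L07.FlatVal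

set_option autoImplicit false
set_option linter.style.haveILetI false
set_option maxSynthPendingDepth 3

/-- The base change of `M` to `V` has no `π`-torsion at the prime `Q`. -/
def TorsionFreeAt (A B V M : Type u) [CommRing A] [CommRing B] [Algebra A B] [CommRing V] [Algebra A V]
    [AddCommGroup M] [Module B M] (π : V) (Q : Ideal (B ⊗[A] V)) : Prop :=
  ∀ w : (B ⊗[A] V) ⊗[B] M, ((1 : B) ⊗ₜ[A] π) • w = 0 → ∃ t ∉ Q, t • w = 0

section Descent

variable {A B B' M M' : Type u} [CommRing A] [CommRing B] [CommRing B'] [Algebra A B] [Algebra A B'] [Algebra B B']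
  [IsScalarTower A B B'] [AddCommGroup M] [Module A M] [Module B M] [IsScalarTower A B M]

/-- Flatness at a prime descends along a flat homomorphism. -/
theorem flat_at_descent [Module.Flat B B'] [AddCommGroup M'] [Module A M'] [Module B M'] [Module B' M']
    [IsScalarTower A B M'] [IsScalarTower B B' M'] [IsScalarTower A B' M'] (f : M →ₗ[B] M') (hf : IsBaseChange B' f)
    (q : Ideal B) [q.IsPrime] (q' : Ideal B') [q'.IsPrime] (hq : q'.comap (algebraMap B B') = q)
    (h : Module.Flat A (LocalizedModule q'.primeCompl M')) :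
    Module.Flat A (LocalizedModule q.primeCompl M) := by
  haveI : IsScalarTower A B (LocalizedModule q'.primeCompl M') := IsScalarTower.of_algebraMap_smul fun a x => by
    rw [← algebraMap_smul B' (algebraMap A B a) x, ← IsScalarTower.algebraMap_apply, algebraMap_smul]
  let T := Localization.AtPrime q'
  haveI : Module.Flat B T := Module.Flat.trans B B' T
  haveI : IsScalarTower B T (LocalizedModule q'.primeCompl M') := IsScalarTower.of_algebraMap_smul fun b x => by
    rw [IsScalarTower.algebraMap_apply B B' T, algebraMap_smul, algebraMap_smul]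
  have hg : IsBaseChange T ((LocalizedModule.mkLinearMap q'.primeCompl M').restrictScalars B ∘ₗ f) :=
    hf.comp (IsLocalizedModule.isBaseChange q'.primeCompl T (LocalizedModule.mkLinearMap q'.primeCompl M'))
  refine Groth.L20.flat_localizedModule_of_descent _ hg q fun htop => ?_
  refine (IsLocalRing.maximalIdeal.isMaximal T).ne_top (top_le_iff.mp (htop.ge.trans (Ideal.map_le_iff_le_comap.mpr ?_)))
  intro b hb
  rw [Ideal.mem_comap, IsScalarTower.algebraMap_apply B B' T, IsLocalization.AtPrime.to_map_mem_maximal_iff T q']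
  rw [← hq] at hb
  exact hb

/-- An element outside the only prime over `p` divides an element from outside `p`. -/
theorem exists_smul_mem_span {P P' : Type u} [CommRing P] [CommRing P'] [Algebra P P'] [Algebra.IsIntegral P P']
    (p : Ideal P) [p.IsPrime] (p' : Ideal P')
    (huniq : ∀ I : Ideal P', I.IsPrime → I.comap (algebraMap P P') = p → I = p') {t : P'} (ht : t ∉ p') :
    ∃ s ∉ p, algebraMap P P' s ∈ Ideal.span {t} := by
  by_contra! hcon
  obtain ⟨I, hge, hI, hIc⟩ := Ideal.exists_ideal_over_prime_of_isIntegral p (Ideal.span {t})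
    fun s hs => by_contra fun h => hcon s h hs
  exact ht (huniq I hI hIc ▸ hge (Ideal.mem_span_singleton_self t))

omit [IsScalarTower A B B'] in
/-- For the only prime of an integral algebra over a prime, flatness of the localizations agree. -/
theorem flat_at_of_unique [Algebra.IsIntegral B B'] [AddCommGroup M'] [Module A M'] [Module B M'] [Module B' M']
    [IsScalarTower A B M'] [IsScalarTower B B' M'] [IsScalarTower A B' M'] (q : Ideal B) [q.IsPrime]
    (q' : Ideal B') [q'.IsPrime] (hq : q'.comap (algebraMap B B') = q)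
    (h : Module.Flat A (LocalizedModule q.primeCompl M')) :
    Module.Flat A (LocalizedModule q'.primeCompl M') := by
  rw [Groth.L20.flat_localizedModule_iff_forall] at h ⊢
  intro J z hz
  obtain ⟨s, hs, hsz⟩ := h J z hz
  refine ⟨algebraMap B B' s, fun hmem => hs (hq ▸ hmem), ?_⟩
  rw [← hsz]
  clear hsz hz
  induction z using TensorProduct.induction_on with
  | zero => simp
  | add a b ha hb => simp only [smul_add, ha, hb]
  | tmul m j => simp [TensorProduct.smul_tmul']

end Descent

section Transfer

variable {A B B' V M M' : Type u} [CommRing A] [CommRing B] [CommRing B'] [CommRing V] [Algebra A B] [Algebra A B']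
  [Algebra B B'] [IsScalarTower A B B'] [Algebra A V] [AddCommGroup M] [Module B M]

/-- The natural map of base changes. -/
noncomputable def bcMap (A B B' V : Type u) [CommRing A] [CommRing B] [CommRing B'] [CommRing V] [Algebra A B]
    [Algebra A B'] [Algebra B B'] [IsScalarTower A B B'] [Algebra A V] : B ⊗[A] V →ₐ[A] B' ⊗[A] V :=
  Algebra.TensorProduct.map (IsScalarTower.toAlgHom A B B') (AlgHom.id A V)

theorem bcMap_tmul (b : B) (v : V) : bcMap A B B' V (b ⊗ₜ v) = algebraMap B B' b ⊗ₜ v := by
  simp [bcMap]

/-- Absence of torsion passes along a flat homomorphism. -/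
theorem TorsionFreeAt.of_flat [Module.Flat B B'] [AddCommGroup M'] [Module B M'] [Module B' M'] [IsScalarTower B B' M']
    (f : M →ₗ[B] M') (hf : IsBaseChange B' f) {π : V} {Q : Ideal (B ⊗[A] V)} (Q' : Ideal (B' ⊗[A] V)) [Q'.IsPrime]
    (hQ : Q'.comap (bcMap A B B' V).toRingHom = Q) (h : TorsionFreeAt A B V M π Q) :
    TorsionFreeAt A B' V M' π Q' := by
  classical
  let S := B ⊗[A] V
  let S' := B' ⊗[A] V
  letI : Algebra S S' := (bcMap A B B' V).toRingHom.toAlgebra
  have hSS : ∀ (b : B) (v : V), algebraMap S S' (b ⊗ₜ v) = algebraMap B B' b ⊗ₜ v := bcMap_tmul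
  haveI : IsScalarTower B S S' := IsScalarTower.of_algebraMap_eq fun b => by
    rw [Algebra.TensorProduct.algebraMap_apply, Algebra.TensorProduct.algebraMap_apply, hSS]
    rfl
  haveI : IsScalarTower B B' S' := IsScalarTower.of_algebraMap_eq fun b => rfl
  haveI hflat : Module.Flat S S' := by
    let e₀ : S ⊗[B] B' ≃+ S' := ((TensorProduct.comm B S B').trans
      (TensorProduct.AlgebraTensorModule.cancelBaseChange A B B B' V)).toAddEquiv
    have he₀ : ∀ (s : S) (b : B'), e₀ (s ⊗ₜ b) = algebraMap S S' s * algebraMap B' S' b := by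
      intro s b
      induction s using TensorProduct.induction_on with
      | zero => simp
      | add x y hx hy => simp only [TensorProduct.add_tmul, map_add, hx, hy, add_mul]
      | tmul c v =>
        show TensorProduct.AlgebraTensorModule.cancelBaseChange A B B B' V (b ⊗ₜ (c ⊗ₜ v)) = _
        rw [TensorProduct.AlgebraTensorModule.cancelBaseChange_tmul, hSS, Algebra.TensorProduct.algebraMap_apply]
        show ((c • b) ⊗ₜ[A] v : B' ⊗[A] V) = (algebraMap B B' c ⊗ₜ[A] v : B' ⊗[A] V) * (b ⊗ₜ[A] (1 : V))
        rw [Algebra.TensorProduct.tmul_mul_tmul, mul_one, Algebra.smul_def]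
    let e : S ⊗[B] B' ≃ₗ[S] S' := AddEquiv.toLinearEquiv e₀ fun s x => by
      induction x using TensorProduct.induction_on with
      | zero => simp
      | add x y hx hy => simp only [smul_add, map_add, hx, hy]
      | tmul a b => rw [TensorProduct.smul_tmul', smul_eq_mul, he₀, he₀, map_mul, mul_assoc, ← Algebra.smul_def]
    exact Module.Flat.of_linearEquiv e.symm
  let N := S ⊗[B] M
  let N' := S' ⊗[B'] M'
  haveI : SMulCommClass S B' S' := ⟨fun s b x => by
    rw [Algebra.smul_def, Algebra.smul_def, Algebra.smul_def, Algebra.smul_def]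
    exact mul_left_comm _ _ _⟩
  haveI : IsScalarTower S S' N' := IsScalarTower.of_algebraMap_smul fun b x => by
    induction x using TensorProduct.induction_on with
    | zero => simp
    | add x y hx hy => simp only [smul_add, hx, hy]
    | tmul y m => rw [TensorProduct.smul_tmul', TensorProduct.smul_tmul', algebraMap_smul]
  haveI : IsScalarTower B B' N' := IsScalarTower.of_algebraMap_smul fun b x => by
    induction x using TensorProduct.induction_on with
    | zero => simp
    | add x y hx hy => simp only [smul_add, hx, hy]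
    | tmul y m => rw [TensorProduct.smul_tmul', TensorProduct.smul_tmul', algebraMap_smul]
  haveI : IsScalarTower B S' N' := IsScalarTower.of_algebraMap_smul fun b x => by
    rw [IsScalarTower.algebraMap_apply B B' S', algebraMap_smul, algebraMap_smul]
  haveI : IsScalarTower B S N' := IsScalarTower.of_algebraMap_smul fun b x => by
    show algebraMap S S' (algebraMap B S b) • x = b • x
    rw [← IsScalarTower.algebraMap_apply, algebraMap_smul]
  have h1 : IsBaseChange S (TensorProduct.mk B S M 1) := TensorProduct.isBaseChange B M S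
  have h2 : IsBaseChange S' (((TensorProduct.mk B' S' M' 1).restrictScalars B) ∘ₗ f) :=
    hf.comp (TensorProduct.isBaseChange B' M' S')
  let g : N →ₗ[S] N' := h1.lift (((TensorProduct.mk B' S' M' 1).restrictScalars B) ∘ₗ f)
  have hg : IsBaseChange S' g := by
    refine IsBaseChange.of_comp h1 ?_
    convert h2 using 1
    exact LinearMap.ext fun x => h1.lift_eq _ x
  intro w hw
  let μ : N →ₗ[S] N := ((1 : B) ⊗ₜ[A] π) • LinearMap.id
  obtain ⟨z, rfl⟩ := hg.equiv.surjective w
  have hz : μ.lTensor S' z = 0 := by
    apply hg.equiv.injective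
    rw [map_zero, ← hw]
    have : ∀ z, hg.equiv (μ.lTensor S' z) = ((1 : B') ⊗ₜ[A] π) • hg.equiv z := by
      intro z
      induction z using TensorProduct.induction_on with
      | zero => simp
      | add x y hx hy => simp only [map_add, hx, hy, smul_add]
      | tmul a x =>
        rw [LinearMap.lTensor_tmul, hg.equiv_tmul, hg.equiv_tmul]
        show a • g (((1 : B) ⊗ₜ[A] π) • x) = _
        rw [map_smul, ← algebraMap_smul S' ((1 : B) ⊗ₜ[A] π) (g x), hSS, map_one, smul_comm]
    exact this z
  have hex : Function.Exact (LinearMap.ker μ).subtype μ := LinearMap.exact_subtype_ker_map μ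
  obtain ⟨u, rfl⟩ := (Module.Flat.lTensor_exact S' hex z).mp hz
  suffices ∀ u : S' ⊗[S] LinearMap.ker μ, ∃ t ∉ Q', t • hg.equiv ((LinearMap.ker μ).subtype.lTensor S' u) = 0 from this u
  intro u
  induction u using TensorProduct.induction_on with
  | zero => exact ⟨1, fun h1' => (Ideal.IsPrime.ne_top ‹Q'.IsPrime›) ((Ideal.eq_top_iff_one _).mpr h1'), by simp⟩
  | add x y hx hy =>
    obtain ⟨t, ht, htx⟩ := hx
    obtain ⟨t', ht', hty⟩ := hy
    refine ⟨t * t', fun hmem => (Ideal.IsPrime.mem_or_mem ‹_› hmem).elim ht ht', ?_⟩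
    rw [map_add, map_add, smul_add, mul_comm t t', mul_smul, htx, smul_zero, mul_comm, mul_smul, hty, smul_zero,
      add_zero]
  | tmul a x =>
    obtain ⟨t, ht, htx⟩ := h x.1 (LinearMap.mem_ker.mp x.2)
    refine ⟨algebraMap S S' t, fun hmem => ht (hQ ▸ hmem), ?_⟩
    rw [LinearMap.lTensor_tmul, hg.equiv_tmul, smul_comm, algebraMap_smul, Submodule.subtype_apply, ← map_smul, htx,
      map_zero, smul_zero]

/-- Base change of a module over `B'` does not depend on viewing it over `B`. -/
theorem exists_semilinearEquiv (A B B' V M' : Type u) [CommRing A] [CommRing B] [CommRing B'] [CommRing V] [Algebra A B]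
    [Algebra A B'] [Algebra B B'] [IsScalarTower A B B'] [Algebra A V] [AddCommGroup M'] [Module B M'] [Module B' M']
    [IsScalarTower B B' M'] :
    ∃ j : (B ⊗[A] V) ⊗[B] M' →+ (B' ⊗[A] V) ⊗[B'] M', Function.Bijective j ∧
      ∀ (t : B ⊗[A] V) z, j (t • z) = bcMap A B B' V t • j z := by
  let j : (B ⊗[A] V) ⊗[B] M' →+ (B' ⊗[A] V) ⊗[B'] M' :=
    TensorProduct.liftAddHom
      (AddMonoidHom.mk' (fun s => (TensorProduct.mk B' _ M' (bcMap A B B' V s)).toAddMonoidHom)
        fun a b => by ext; simp [TensorProduct.add_tmul])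
      fun b s m => by
        show bcMap A B B' V (b • s) ⊗ₜ[B'] m = bcMap A B B' V s ⊗ₜ[B'] (b • m)
        rw [← algebraMap_smul B' b m, ← TensorProduct.smul_tmul]
        congr 1
        induction s using TensorProduct.induction_on with
        | zero => simp
        | add x y hx hy => simp only [smul_add, map_add, hx, hy]
        | tmul c v => rw [TensorProduct.smul_tmul', bcMap_tmul, bcMap_tmul, TensorProduct.smul_tmul', smul_eq_mul,
            smul_eq_mul, map_mul]
  have hj : Function.Bijective j := by
    letI : Module A M' := Module.compHom M' (algebraMap A B')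
    haveI : IsScalarTower A B' M' := IsScalarTower.of_algebraMap_smul fun _ _ => rfl
    haveI : IsScalarTower A B M' := IsScalarTower.of_algebraMap_smul fun a x => by
      rw [← algebraMap_smul B' (algebraMap A B a) x, ← IsScalarTower.algebraMap_apply]
      rfl
    let φ := (TensorProduct.comm B (B ⊗[A] V) M').trans (TensorProduct.AlgebraTensorModule.cancelBaseChange A B B M' V)
    let φ' := (TensorProduct.comm B' (B' ⊗[A] V) M').trans (TensorProduct.AlgebraTensorModule.cancelBaseChange A B' B' M' V)
    have : ∀ z, φ' (j z) = φ z := fun z => by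
      induction z using TensorProduct.induction_on with
      | zero => simp
      | add x y hx hy => simp only [map_add, hx, hy]
      | tmul s m =>
        show φ' (bcMap A B B' V s ⊗ₜ[B'] m) = _
        induction s using TensorProduct.induction_on with
        | zero => simp
        | add x y hx hy => simp only [TensorProduct.add_tmul, map_add, hx, hy]
        | tmul c v => simp [φ, φ', bcMap_tmul, algebraMap_smul]
    refine ⟨fun a b hab => φ.injective (by rw [← this, ← this, hab]), fun y => ⟨φ.symm (φ' y), φ'.injective ?_⟩⟩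
    rw [this, LinearEquiv.apply_symm_apply]
  have hsmul : ∀ (t : B ⊗[A] V) z, j (t • z) = bcMap A B B' V t • j z := fun t z => by
    induction z using TensorProduct.induction_on with
    | zero => simp
    | add x y hx hy => simp only [smul_add, map_add, hx, hy]
    | tmul s m =>
      show bcMap A B B' V (t * s) ⊗ₜ[B'] m = bcMap A B B' V t • (bcMap A B B' V s ⊗ₜ[B'] m)
      rw [TensorProduct.smul_tmul', smul_eq_mul, map_mul]
  exact ⟨j, hj, hsmul⟩

/-- Absence of torsion passes to a quotient of the algebra acting on the module. -/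
theorem TorsionFreeAt.of_surjective [AddCommGroup M'] [Module B M'] [Module B' M'] [IsScalarTower B B' M'] {π : V}
    (Q : Ideal (B ⊗[A] V)) (Q' : Ideal (B' ⊗[A] V)) (hQ : Q'.comap (bcMap A B B' V).toRingHom = Q)
    (h : TorsionFreeAt A B V M' π Q) : TorsionFreeAt A B' V M' π Q' := by
  obtain ⟨j, hj, hsmul⟩ := exists_semilinearEquiv A B B' V M'
  intro w hw
  obtain ⟨w, rfl⟩ := hj.2 w
  obtain ⟨t, ht, htw⟩ := h w (hj.1 (by
    rw [hsmul, bcMap_tmul, map_one, map_zero]
    exact hw))
  refine ⟨bcMap A B B' V t, fun hmem => ht (hQ ▸ hmem), ?_⟩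
  rw [← hsmul, htw, map_zero]

omit [IsScalarTower A B B'] in
/-- Absence of torsion at the only prime over a prime, for an integral algebra, gives it at that prime. -/
theorem TorsionFreeAt.of_unique [IsScalarTower A B B'] [Algebra.IsIntegral B B'] [AddCommGroup M'] [Module B M'] [Module B' M']
    [IsScalarTower B B' M'] {π : V} (Q : Ideal (B ⊗[A] V)) [Q.IsPrime] (Q' : Ideal (B' ⊗[A] V))
    (huniq : ∀ I : Ideal (B' ⊗[A] V), I.IsPrime → I.comap (bcMap A B B' V).toRingHom = Q → I = Q')
    (h : TorsionFreeAt A B' V M' π Q') : TorsionFreeAt A B V M' π Q := by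
  letI : Algebra (B ⊗[A] V) (B' ⊗[A] V) := (bcMap A B B' V).toRingHom.toAlgebra
  haveI : Algebra.IsIntegral (B ⊗[A] V) (B' ⊗[A] V) := ⟨fun x => by
    induction x using TensorProduct.induction_on with
    | zero => exact isIntegral_zero
    | add a b ha hb => exact ha.add hb
    | tmul c v =>
      haveI : IsScalarTower B (B ⊗[A] V) (B' ⊗[A] V) := IsScalarTower.of_algebraMap_eq fun b => by
        rw [Algebra.TensorProduct.algebraMap_apply, Algebra.TensorProduct.algebraMap_apply]
        exact (bcMap_tmul b 1).symm
      have h1 : IsIntegral (B ⊗[A] V) (c ⊗ₜ[A] (1 : V) : B' ⊗[A] V) :=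
        ((Algebra.IsIntegral.isIntegral (R := B) c).map (IsScalarTower.toAlgHom B B' (B' ⊗[A] V))).tower_top
      have h2 : c ⊗ₜ[A] v = c ⊗ₜ[A] (1 : V) * algebraMap (B ⊗[A] V) (B' ⊗[A] V) ((1 : B) ⊗ₜ v) := by
        show _ = _ * bcMap A B B' V ((1 : B) ⊗ₜ v)
        rw [bcMap_tmul, map_one, Algebra.TensorProduct.tmul_mul_tmul, mul_one, one_mul]
      rw [h2]
      exact h1.mul isIntegral_algebraMap⟩
  obtain ⟨j, hj, hsmul⟩ := exists_semilinearEquiv A B B' V M'
  intro w hw
  obtain ⟨t, ht, htw⟩ := h (j w) (by
    rw [← map_one (algebraMap B B'), ← bcMap_tmul, ← hsmul, hw, map_zero])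
  obtain ⟨s, hs, hst⟩ := exists_smul_mem_span (P := B ⊗[A] V) (P' := B' ⊗[A] V) Q Q' huniq ht
  obtain ⟨r, hr⟩ := Ideal.mem_span_singleton'.mp hst
  refine ⟨s, hs, hj.1 ?_⟩
  rw [map_zero, hsmul]
  show algebraMap (B ⊗[A] V) (B' ⊗[A] V) s • j w = 0
  rw [← hr, mul_smul, htw, smul_zero]

end Transfer

end Groth.L07.FlatVal
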