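import Groth.Agent.L07.FlatVal.Basic
import Groth.Agent.S9435
import Groth.Agent.L03.RegularFiniteExt
import Mathlib.RingTheory.Etale.QuasiFinite
import Mathlib.RingTheory.NoetherNormalization
import Mathlib.RingTheory.KrullDimension.Polynomial
import Mathlib.RingTheory.Smooth.Basic
import Mathlib.RingTheory.ZariskisMainTheorem
import Mathlib.FieldTheory.SeparableClosure
import Mathlib.RingTheory.Unramified.LocalStructure

/-!
The local structure used in the valuative criterion of flatness: étale-locally a finite module over a smooth algebra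
of the same fibre dimension, with residue extension purely inseparable.
-/

universe u

open TensorProduct

namespace Groth.L07.FlatVal

set_option autoImplicit false
set_option linter.style.haveILetI false
set_option maxSynthPendingDepth 3

variable {A : Type u} [CommRing A] [IsLocalRing A]

/-- The inclusion of the right factor of a tensor product with a flat algebra is flat. -/
theorem flat_includeRight (R S T : Type u) [CommRing R] [CommRing S] [CommRing T] [Algebra R S] [Algebra R T]
    [Module.Flat R S] : (Algebra.TensorProduct.includeRight : T →ₐ[R] S ⊗[R] T).toRingHom.Flat := by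
  letI : Algebra T (S ⊗[R] T) := (Algebra.TensorProduct.includeRight : T →ₐ[R] S ⊗[R] T).toRingHom.toAlgebra
  show Module.Flat T (S ⊗[R] T)
  let e : S ⊗[R] T ≃ₗ[T] T ⊗[R] S := AddEquiv.toLinearEquiv (TensorProduct.comm R S T).toAddEquiv fun t x => by
    induction x using TensorProduct.induction_on with
    | zero => simp
    | add a b ha hb => simp only [smul_add, map_add, ha, hb]
    | tmul s t' =>
      show TensorProduct.comm R S T (((1 : S) ⊗ₜ[R] t) * (s ⊗ₜ[R] t')) = t • (t' ⊗ₜ[R] s)
      rw [Algebra.TensorProduct.tmul_mul_tmul, one_mul, TensorProduct.comm_tmul, TensorProduct.smul_tmul', smul_eq_mul]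
  exact Module.Flat.of_linearEquiv e

/-- A prime of a base change over a given pair of primes. -/
theorem exists_prime_over {B B' V : Type u} [CommRing B] [CommRing B'] [CommRing V] [Algebra A B] [Algebra A B']
    [Algebra B B'] [IsScalarTower A B B'] [Algebra A V] (q : Ideal B) [q.IsPrime] (q' : Ideal B') [q'.IsPrime]
    (hq' : q'.comap (algebraMap B B') = q) (Q : Ideal (B ⊗[A] V)) [Q.IsPrime]
    (hQ : Q.comap (Algebra.TensorProduct.includeLeftRingHom : B →+* B ⊗[A] V) = q) :
    ∃ Q' : Ideal (B' ⊗[A] V), Q'.IsPrime ∧ Q'.comap (bcMap A B B' V).toRingHom = Q ∧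
      Q'.comap (Algebra.TensorProduct.includeLeftRingHom : B' →+* B' ⊗[A] V) = q' := by
  haveI : q'.LiesOver q := ⟨hq'.symm⟩
  letI : Algebra q.ResidueField q'.ResidueField := (Ideal.ResidueField.map q q' (algebraMap B B') hq'.symm).toAlgebra
  haveI : IsScalarTower B q.ResidueField q'.ResidueField :=
    IsScalarTower.of_algebraMap_eq fun b => by
      show algebraMap B q'.ResidueField b = Ideal.ResidueField.map q q' (algebraMap B B') hq'.symm _
      rw [Ideal.ResidueField.map_algebraMap, ← IsScalarTower.algebraMap_apply]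
  letI : Algebra q.ResidueField Q.ResidueField :=
    (Ideal.ResidueField.map q Q (Algebra.TensorProduct.includeLeftRingHom : B →+* B ⊗[A] V) hQ.symm).toAlgebra
  haveI : IsScalarTower B q.ResidueField Q.ResidueField :=
    IsScalarTower.of_algebraMap_eq fun b => by
      show algebraMap B Q.ResidueField b = Ideal.ResidueField.map q Q _ hQ.symm _
      rw [Ideal.ResidueField.map_algebraMap, IsScalarTower.algebraMap_apply B (B ⊗[A] V) Q.ResidueField]
      rfl
  haveI : Nontrivial (q'.ResidueField ⊗[q.ResidueField] Q.ResidueField) :=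
    Module.FaithfullyFlat.nontrivial_tensorProduct_iff_right q.ResidueField q'.ResidueField |>.mpr inferInstance
  obtain ⟨I, hI⟩ := Ideal.exists_maximal (q'.ResidueField ⊗[q.ResidueField] Q.ResidueField)
  let E := (q'.ResidueField ⊗[q.ResidueField] Q.ResidueField) ⧸ I
  letI : Field E := Ideal.Quotient.field I
  let j₁ : q'.ResidueField →+* E := (Ideal.Quotient.mk I).comp Algebra.TensorProduct.includeLeftRingHom
  let j₂ : Q.ResidueField →+* E :=
    (Ideal.Quotient.mk I).comp (Algebra.TensorProduct.includeRight : Q.ResidueField →ₐ[q.ResidueField] _).toRingHom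
  let g₁ : B' →+* E := j₁.comp (algebraMap B' q'.ResidueField)
  let g₂ : B ⊗[A] V →+* E := j₂.comp (algebraMap (B ⊗[A] V) Q.ResidueField)
  have hB : ∀ b : B, g₁ (algebraMap B B' b) = g₂ (b ⊗ₜ 1) := fun b => by
    show Ideal.Quotient.mk I (algebraMap B' q'.ResidueField (algebraMap B B' b) ⊗ₜ 1) =
      Ideal.Quotient.mk I (1 ⊗ₜ algebraMap (B ⊗[A] V) Q.ResidueField (algebraMap B (B ⊗[A] V) b))
    congr 1
    rw [← IsScalarTower.algebraMap_apply, ← IsScalarTower.algebraMap_apply,
      IsScalarTower.algebraMap_apply B q.ResidueField q'.ResidueField,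
      IsScalarTower.algebraMap_apply B q.ResidueField Q.ResidueField, Algebra.algebraMap_eq_smul_one,
      TensorProduct.smul_tmul, ← Algebra.algebraMap_eq_smul_one]
  obtain ⟨E, _, g₁, g₂, hB, hk₁, hk₂⟩ : ∃ (E : Type u) (_ : Field E) (g₁ : B' →+* E) (g₂ : B ⊗[A] V →+* E),
      (∀ b : B, g₁ (algebraMap B B' b) = g₂ (b ⊗ₜ 1)) ∧ RingHom.ker g₁ = q' ∧ RingHom.ker g₂ = Q :=
    ⟨E, inferInstance, g₁, g₂, hB,
      by ext b; exact (map_eq_zero_iff j₁ (RingHom.injective j₁)).trans Ideal.algebraMap_residueField_eq_zero,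
      by ext s; exact (map_eq_zero_iff j₂ (RingHom.injective j₂)).trans Ideal.algebraMap_residueField_eq_zero⟩
  letI : Algebra A E := (g₂.comp (algebraMap A (B ⊗[A] V))).toAlgebra
  let a₁ : B' →ₐ[A] E :=
    { g₁ with
      commutes' := fun a => by
        show g₁ (algebraMap A B' a) = g₂ (algebraMap A (B ⊗[A] V) a)
        rw [IsScalarTower.algebraMap_apply A B B', hB, Algebra.TensorProduct.algebraMap_apply] }
  let a₂ : V →ₐ[A] E :=
    { g₂.comp (Algebra.TensorProduct.includeRight : V →ₐ[A] B ⊗[A] V).toRingHom with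
      commutes' := fun a => by
        show g₂ ((1 : B) ⊗ₜ[A] algebraMap A V a) = g₂ (algebraMap A (B ⊗[A] V) a)
        rw [Algebra.TensorProduct.algebraMap_apply, Algebra.algebraMap_eq_smul_one (A := V), TensorProduct.tmul_smul,
          TensorProduct.smul_tmul', ← Algebra.algebraMap_eq_smul_one] }
  let G : B' ⊗[A] V →ₐ[A] E := Algebra.TensorProduct.lift a₁ a₂ fun _ _ => Commute.all _ _
  have hG : ∀ s, G (bcMap A B B' V s) = g₂ s := fun s => by
    induction s using TensorProduct.induction_on with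
    | zero => simp
    | add a b ha hb => simp only [map_add, ha, hb]
    | tmul b v =>
      rw [bcMap_tmul, show G = Algebra.TensorProduct.lift a₁ a₂ _ from rfl, Algebra.TensorProduct.lift_tmul]
      show g₁ (algebraMap B B' b) * g₂ ((1 : B) ⊗ₜ v) = _
      rw [hB, ← map_mul, Algebra.TensorProduct.tmul_mul_tmul, mul_one, one_mul]
  refine ⟨RingHom.ker G.toRingHom, RingHom.ker_isPrime _, ?_, ?_⟩
  · ext s
    show G (bcMap A B B' V s) = 0 ↔ s ∈ Q
    rw [hG, ← hk₂]
    rfl
  · ext b
    show G (b ⊗ₜ 1) = 0 ↔ b ∈ q'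
    rw [show G = Algebra.TensorProduct.lift a₁ a₂ _ from rfl, Algebra.TensorProduct.lift_tmul, map_one, mul_one, ← hk₁]
    rfl

/-- The data of a chart: a module over a smooth algebra with bounded fibre dimension, torsion-free at a prime of the
base change to `V`, from whose flatness that of the original module follows. -/
structure ChartData (V : Type u) [CommRing V] [Algebra A V] (π : V) (n : ℕ) (goal : Prop) where
  P : Type u
  [cP : CommRing P]
  [aP : Algebra A P]
  [smooth : Algebra.Smooth A P]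
  M : Type u
  [gM : AddCommGroup M]
  [mPM : Module P M]
  [mAM : Module A M]
  [tM : IsScalarTower A P M]
  [finM : Module.Finite P M]
  ξ : Ideal P
  [hξ : ξ.IsPrime]
  hξm : ξ.comap (algebraMap A P) = IsLocalRing.maximalIdeal A
  hdim : ringKrullDim (P ⧸ (IsLocalRing.maximalIdeal A).map (algebraMap A P)) ≤ (n : WithBot ℕ∞)
  Qp : Ideal (P ⊗[A] V)
  [hQp : Qp.IsPrime]
  hQξ : Qp.comap (Algebra.TensorProduct.includeLeftRingHom : P →+* P ⊗[A] V) = ξ
  hQπ : (1 : P) ⊗ₜ[A] π ∈ Qp
  htf : TorsionFreeAt A P V M π Qp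
  conclude : Module.Flat A (LocalizedModule ξ.primeCompl M) → goal

attribute [instance] ChartData.cP ChartData.aP ChartData.smooth ChartData.gM ChartData.mPM ChartData.mAM ChartData.tM
  ChartData.finM ChartData.hξ ChartData.hQp

/-- Primes of an integral base change with the same trace and purely inseparable residue extensions are equal. -/
theorem unique_over_of_rigid {P B' V : Type u} [CommRing P] [CommRing B'] [CommRing V] [Algebra A P] [Algebra A B']
    [Algebra P B'] [IsScalarTower A P B'] [Algebra A V] [Algebra.IsIntegral P B'] (q' : Ideal B') (ξ : Ideal P)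
    (huniq : ∀ I : Ideal B', I.IsPrime → I.comap (algebraMap P B') = ξ → I = q')
    (hrigid : ∀ (Ω : Type u) [Field Ω] (g₁ g₂ : B' →+* Ω), RingHom.ker g₁ = q' → RingHom.ker g₂ = q' →
      g₁.comp (algebraMap P B') = g₂.comp (algebraMap P B') → g₁ = g₂)
    (Qp : Ideal (P ⊗[A] V)) [Qp.IsPrime]
    (hQξ : Qp.comap (Algebra.TensorProduct.includeLeftRingHom : P →+* P ⊗[A] V) = ξ)
    (I I' : Ideal (B' ⊗[A] V)) [I.IsPrime] [I'.IsPrime]
    (hI : I.comap (bcMap A P B' V).toRingHom = Qp) (hI' : I'.comap (bcMap A P B' V).toRingHom = Qp) : I = I' := by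
  let S := P ⊗[A] V
  let S' := B' ⊗[A] V
  letI : Algebra S S' := (bcMap A P B' V).toRingHom.toAlgebra
  haveI : IsScalarTower P S S' := IsScalarTower.of_algebraMap_eq fun b => by
    rw [Algebra.TensorProduct.algebraMap_apply, Algebra.TensorProduct.algebraMap_apply]
    exact (bcMap_tmul b 1).symm
  haveI : Algebra.IsIntegral S S' := ⟨fun x => by
    induction x using TensorProduct.induction_on with
    | zero => exact isIntegral_zero
    | add a b ha hb => exact ha.add hb
    | tmul c v =>
      have h1 : IsIntegral S (c ⊗ₜ[A] (1 : V) : B' ⊗[A] V) :=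
        ((Algebra.IsIntegral.isIntegral (R := P) c).map (IsScalarTower.toAlgHom P B' S')).tower_top
      have h2 : c ⊗ₜ[A] v = c ⊗ₜ[A] (1 : V) * algebraMap S S' ((1 : P) ⊗ₜ v) := by
        show _ = _ * bcMap A P B' V ((1 : P) ⊗ₜ v)
        rw [bcMap_tmul, map_one, Algebra.TensorProduct.tmul_mul_tmul, mul_one, one_mul]
      rw [h2]
      exact h1.mul isIntegral_algebraMap⟩
  let Ω := AlgebraicClosure Qp.ResidueField
  letI : Algebra S Ω := ((algebraMap Qp.ResidueField Ω).comp (algebraMap S Qp.ResidueField)).toAlgebra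
  have key : ∀ (J : Ideal S') [J.IsPrime], J.comap (algebraMap S S') = Qp →
      ∃ G : S' →+* Ω, RingHom.ker G = J ∧ ∀ s, G (algebraMap S S' s) = algebraMap S Ω s := by
    intro J _ hJ
    haveI : J.LiesOver Qp := ⟨hJ.symm⟩
    haveI : Algebra.IsIntegral (S ⧸ Qp) (S' ⧸ J) := ⟨fun y => by
      obtain ⟨y, rfl⟩ := Ideal.Quotient.mk_surjective y
      exact ((Algebra.IsIntegral.isIntegral (R := S) y).map (IsScalarTower.toAlgHom S S' (S' ⧸ J))).tower_top⟩
    haveI : FaithfulSMul (S ⧸ Qp) Ω := by
      rw [faithfulSMul_iff_algebraMap_injective]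
      exact (algebraMap Qp.ResidueField Ω).injective.comp (IsFractionRing.injective (S ⧸ Qp) Qp.ResidueField)
    haveI : FaithfulSMul (S ⧸ Qp) (S' ⧸ J) := by
      rw [faithfulSMul_iff_algebraMap_injective, injective_iff_map_eq_zero]
      intro y hy
      obtain ⟨y, rfl⟩ := Ideal.Quotient.mk_surjective y
      refine Ideal.Quotient.eq_zero_iff_mem.mpr ?_
      rw [← hJ, Ideal.mem_comap]
      exact Ideal.Quotient.eq_zero_iff_mem.mp ((show algebraMap (S ⧸ Qp) (S' ⧸ J) (Ideal.Quotient.mk Qp y) =
        Ideal.Quotient.mk J (algebraMap S S' y) from rfl).symm.trans hy)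
    haveI : Module.IsTorsionFree (S ⧸ Qp) Ω := FaithfulSMul.to_isTorsionFree _ _
    haveI : Module.IsTorsionFree (S ⧸ Qp) (S' ⧸ J) := FaithfulSMul.to_isTorsionFree _ _
    haveI : Algebra.IsAlgebraic (S ⧸ Qp) (S' ⧸ J) := ⟨fun z => (Algebra.IsIntegral.isIntegral z).isAlgebraic⟩
    let e : (S' ⧸ J) →ₐ[S ⧸ Qp] Ω := IsAlgClosed.lift
    refine ⟨e.toRingHom.comp (Ideal.Quotient.mk J), ?_, fun s => ?_⟩
    · have hinj : Function.Injective e := by
        rw [injective_iff_map_eq_zero]
        intro z hz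
        by_contra hne
        haveI : RingHom.ker e.toRingHom |>.IsPrime := RingHom.ker_isPrime _
        have hbot : (RingHom.ker e.toRingHom).comap (algebraMap (S ⧸ Qp) (S' ⧸ J)) = ⊥ := by
          rw [RingHom.comap_ker, ← RingHom.injective_iff_ker_eq_bot]
          rw [show e.toRingHom.comp (algebraMap (S ⧸ Qp) (S' ⧸ J)) = algebraMap (S ⧸ Qp) Ω from e.comp_algebraMap]
          exact FaithfulSMul.algebraMap_injective _ _
        exact hne ((Ideal.mem_bot).mp (Ideal.eq_bot_of_comap_eq_bot hbot ▸ (RingHom.mem_ker.mpr hz)))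
      ext z
      exact (map_eq_zero_iff e hinj).trans Ideal.Quotient.eq_zero_iff_mem
    · exact e.commutes (Ideal.Quotient.mk Qp s)
  obtain ⟨G, hG, hGS⟩ := key I hI
  obtain ⟨G', hG', hGS'⟩ := key I' hI'
  have hcomap : ∀ (H : S' →+* Ω), (∀ s, H (algebraMap S S' s) = algebraMap S Ω s) →
      RingHom.ker (H.comp (Algebra.TensorProduct.includeLeftRingHom : B' →+* S')) = q' := fun H hH => by
    refine huniq _ (RingHom.ker_isPrime _) ?_
    ext p
    show H ((algebraMap P B' p) ⊗ₜ 1) = 0 ↔ p ∈ ξ
    rw [← bcMap_tmul, ← hQξ]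
    show H (algebraMap S S' _) = 0 ↔ _
    rw [hH]
    exact (map_eq_zero_iff (algebraMap Qp.ResidueField Ω) (RingHom.injective _)).trans Ideal.algebraMap_residueField_eq_zero
  have hPe : ∀ (p : P), G ((algebraMap P B' p) ⊗ₜ 1) = G' ((algebraMap P B' p) ⊗ₜ 1) := fun p => by
    rw [← bcMap_tmul]
    exact (hGS _).trans (hGS' _).symm
  have hB := hrigid Ω _ _ (hcomap G hGS) (hcomap G' hGS') (RingHom.ext hPe)
  have : G = G' := RingHom.ext fun z => by
    induction z using TensorProduct.induction_on with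
    | zero => simp
    | add a b ha hb => simp only [map_add, ha, hb]
    | tmul c v =>
      have h2 : c ⊗ₜ[A] v = c ⊗ₜ[A] (1 : V) * algebraMap S S' ((1 : P) ⊗ₜ v) := by
        show _ = _ * bcMap A P B' V ((1 : P) ⊗ₜ v)
        rw [bcMap_tmul, map_one, Algebra.TensorProduct.tmul_mul_tmul, mul_one, one_mul]
      rw [h2, map_mul, map_mul, hGS, hGS']
      exact congrArg (· * _) (RingHom.congr_fun hB c)
  rw [← hG, ← hG', this]

/-- Quasi-finite étale base change does not increase the dimension. -/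
theorem ringKrullDim_le_of_quasiFinite {R S : Type u} [CommRing R] [CommRing S] [Algebra R S] [Algebra.QuasiFinite R S] :
    ringKrullDim S ≤ ringKrullDim R :=
  Order.krullDim_le_of_strictMono (PrimeSpectrum.comap (algebraMap R S)) fun P Q hPQ => by
    refine lt_of_le_of_ne (Ideal.comap_mono hPQ.le) fun h => hPQ.ne (PrimeSpectrum.ext ?_)
    exact Algebra.QuasiFinite.eq_of_le_of_under_eq (R := R) P.asIdeal Q.asIdeal hPQ.le (congrArg PrimeSpectrum.asIdeal h)

set_option maxHeartbeats 2000000 in
/-- Charts exist. -/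
theorem exists_chart {B V M : Type u} [CommRing B] [Algebra A B] [Algebra.FiniteType A B] [CommRing V] [Algebra A V]
    [AddCommGroup M] [Module A M] [Module B M] [IsScalarTower A B M] [Module.Finite B M]
    (q : Ideal B) [q.IsPrime] (hqm : q.comap (algebraMap A B) = IsLocalRing.maximalIdeal A) (n : ℕ)
    (hdim : ringKrullDim (B ⧸ (IsLocalRing.maximalIdeal A).map (algebraMap A B)) ≤ (n : WithBot ℕ∞))
    {π : V} (Q : Ideal (B ⊗[A] V)) [Q.IsPrime]
    (hQq : Q.comap (Algebra.TensorProduct.includeLeftRingHom : B →+* B ⊗[A] V) = q) (hQπ : (1 : B) ⊗ₜ[A] π ∈ Q)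
    (htf : TorsionFreeAt A B V M π Q) :
    Nonempty (ChartData (A := A) V π n (Module.Flat A (LocalizedModule q.primeCompl M))) := by
  classical
  let m := IsLocalRing.maximalIdeal A
  let I := m.map (algebraMap A B)
  let k := IsLocalRing.ResidueField A
  letI : Algebra k (B ⧸ I) := (Ideal.Quotient.lift m (algebraMap A (B ⧸ I)) fun a ha => by
    rw [IsScalarTower.algebraMap_apply A B (B ⧸ I), Ideal.Quotient.algebraMap_eq, Ideal.Quotient.eq_zero_iff_mem]
    exact Ideal.mem_map_of_mem _ ha).toAlgebra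
  haveI : IsScalarTower A k (B ⧸ I) := IsScalarTower.of_algebraMap_eq fun _ => rfl
  haveI : Algebra.FiniteType A (B ⧸ I) := Algebra.FiniteType.of_surjective (Ideal.Quotient.mkₐ A I) Ideal.Quotient.mk_surjective
  haveI : Algebra.FiniteType k (B ⧸ I) := Algebra.FiniteType.of_restrictScalars_finiteType A k _
  have hIq : I ≤ q := Ideal.map_le_iff_le_comap.mpr hqm.ge
  haveI : Nontrivial (B ⧸ I) := Ideal.Quotient.nontrivial_iff.mpr fun h => Ideal.IsPrime.ne_top ‹q.IsPrime› (top_le_iff.mp (h ▸ hIq))
  obtain ⟨s, g, ginj, gfin⟩ := exists_finite_inj_algHom_of_fg k (B ⧸ I)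
  letI : Algebra (MvPolynomial (Fin s) k) (B ⧸ I) := g.toRingHom.toAlgebra
  haveI : Module.Finite (MvPolynomial (Fin s) k) (B ⧸ I) := gfin
  have hsn : s ≤ n := by
    have h1 : ringKrullDim (MvPolynomial (Fin s) k) = ringKrullDim (B ⧸ I) :=
      Groth.L03.RegularFiniteExt.ringKrullDim_eq_of_integral ginj
    rw [MvPolynomial.ringKrullDim_of_isNoetherianRing, ringKrullDim_eq_zero_of_field, zero_add] at h1
    have h2 : ((Nat.card (Fin s) : ℕ) : WithBot ℕ∞) ≤ (n : WithBot ℕ∞) := h1.le.trans hdim
    rw [Nat.card_fin] at h2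
    exact_mod_cast h2
  let P := MvPolynomial (Fin s) A
  choose y hy using fun i => Ideal.Quotient.mk_surjective (g (MvPolynomial.X i))
  let πP : P →ₐ[A] B := MvPolynomial.aeval y
  letI : Algebra P B := πP.toRingHom.toAlgebra
  haveI : IsScalarTower A P B := IsScalarTower.of_algebraMap_eq fun a => (πP.commutes a).symm
  haveI : Algebra.FiniteType P B := Algebra.FiniteType.of_restrictScalars_finiteType A P B
  have hcomp : ∀ p : P, algebraMap P (B ⧸ I) p = g (MvPolynomial.map (algebraMap A k) p) := by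
    intro p
    show Ideal.Quotient.mk I (πP p) = _
    induction p using MvPolynomial.induction_on with
    | C a =>
      rw [MvPolynomial.map_C, ← MvPolynomial.algebraMap_eq, ← MvPolynomial.algebraMap_eq, πP.commutes, g.commutes]
      exact IsScalarTower.algebraMap_apply A k (B ⧸ I) a
    | add a b ha hb => simp only [map_add, ha, hb]
    | mul_X a i ha => rw [map_mul, map_mul, map_mul, map_mul, ha, MvPolynomial.map_X, MvPolynomial.aeval_X, hy]
  haveI : Module.Finite P (B ⧸ I) := by
    have h : (algebraMap P (B ⧸ I)).Finite := by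
      rw [show algebraMap P (B ⧸ I) = g.toRingHom.comp (MvPolynomial.map (algebraMap A k)) from RingHom.ext hcomp]
      exact RingHom.Finite.comp gfin (RingHom.Finite.of_surjective _
        (MvPolynomial.map_surjective _ Ideal.Quotient.mk_surjective))
    exact RingHom.finite_algebraMap.mp h
  let ξ₀ := q.comap (algebraMap P B)
  haveI : q.LiesOver ξ₀ := ⟨rfl⟩
  haveI : Algebra.WeaklyQuasiFiniteAt P q := by
    rw [Algebra.WeaklyQuasiFiniteAt]
    let J := (q.under P).map (algebraMap P B)
    have hIJ : I ≤ J := Ideal.map_le_iff_le_comap.mpr fun a ha => by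
      rw [Ideal.mem_comap, IsScalarTower.algebraMap_apply A P B]
      refine Ideal.mem_map_of_mem _ ?_
      show algebraMap P B (algebraMap A P a) ∈ q
      rw [← IsScalarTower.algebraMap_apply]
      exact hqm.ge ha
    haveI : Module.Finite P (B ⧸ J) :=
      Module.Finite.of_surjective ((Ideal.Quotient.factorₐ P hIJ).toLinearMap) (Ideal.Quotient.factor_surjective hIJ)
    infer_instance
  haveI : Algebra.QuasiFiniteAt P q := .of_weaklyQuasiFiniteAt q
  letI := Localization.AtPrime.algebraOfLiesOver ξ₀ q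
  haveI : Module.Finite ξ₀.ResidueField q.ResidueField := inferInstance
  let L := separableClosure ξ₀.ResidueField q.ResidueField
  haveI : IsScalarTower P L q.ResidueField := IsScalarTower.of_algebraMap_eq fun p => by
    rw [IsScalarTower.algebraMap_apply P ξ₀.ResidueField q.ResidueField, IsScalarTower.algebraMap_apply P ξ₀.ResidueField L]
    rfl
  obtain ⟨P₁, _, _, _, ψ, hψ⟩ := Groth.Agent.S9435.result P ξ₀ L
  let χ : P₁ ⊗[P] B →ₐ[P] q.ResidueField := Algebra.TensorProduct.lift
    ((IsScalarTower.toAlgHom P L q.ResidueField).comp ψ) (IsScalarTower.toAlgHom P B q.ResidueField)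
    fun _ _ => Commute.all _ _
  let q₁ := RingHom.ker χ.toRingHom
  haveI : q₁.IsPrime := RingHom.ker_isPrime _
  have hq₁B : q₁.comap (Algebra.TensorProduct.includeRight : B →ₐ[P] P₁ ⊗[P] B).toRingHom = q := by
    ext b
    show χ ((1 : P₁) ⊗ₜ b) = 0 ↔ b ∈ q
    rw [Algebra.TensorProduct.lift_tmul, map_one, one_mul]
    exact Ideal.algebraMap_residueField_eq_zero
  let ξ₁ := q₁.comap (algebraMap P₁ (P₁ ⊗[P] B))
  haveI : q₁.LiesOver ξ₁ := ⟨rfl⟩
  haveI : Algebra.QuasiFiniteAt P₁ q₁ := .baseChange q q₁ hq₁B.symm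
  -- rigidity of `q₁` over `P₁`
  have hrig₁ : ∀ (Ω : Type u) [Field Ω] (g₁ g₂ : P₁ ⊗[P] B →+* Ω), RingHom.ker g₁ = q₁ → RingHom.ker g₂ = q₁ →
      g₁.comp (algebraMap P₁ (P₁ ⊗[P] B)) = g₂.comp (algebraMap P₁ (P₁ ⊗[P] B)) → g₁ = g₂ := by
    intro Ω _ g₁ g₂ hg₁ hg₂ hP
    let j : q₁.ResidueField →+* q.ResidueField := Ideal.ResidueField.lift q₁ χ.toRingHom le_rfl
      fun z hz => Ne.isUnit hz
    have hj : Function.Bijective j := by
      refine ⟨RingHom.injective j, fun z => ?_⟩
      obtain ⟨a, b, hb, rfl⟩ := IsFractionRing.div_surjective (B ⧸ q) z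
      obtain ⟨a, rfl⟩ := Ideal.Quotient.mk_surjective a
      obtain ⟨b, rfl⟩ := Ideal.Quotient.mk_surjective b
      refine ⟨algebraMap _ q₁.ResidueField ((1 : P₁) ⊗ₜ[P] a) / algebraMap _ q₁.ResidueField ((1 : P₁) ⊗ₜ[P] b), ?_⟩
      rw [map_div₀, show ∀ z, j (algebraMap _ q₁.ResidueField z) = χ z from
        Ideal.ResidueField.lift_algebraMap q₁ χ.toRingHom le_rfl fun z hz => Ne.isUnit hz,
        show ∀ z, j (algebraMap _ q₁.ResidueField z) = χ z from
        Ideal.ResidueField.lift_algebraMap q₁ χ.toRingHom le_rfl fun z hz => Ne.isUnit hz]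
      show χ ((1 : P₁) ⊗ₜ[P] a) / χ ((1 : P₁) ⊗ₜ[P] b) = _
      rw [Algebra.TensorProduct.lift_tmul, Algebra.TensorProduct.lift_tmul, map_one, one_mul, one_mul]
      rfl
    let e := RingEquiv.ofBijective j hj
    have hh : ∀ (g : P₁ ⊗[P] B →+* Ω), RingHom.ker g = q₁ →
        ∃ h : q.ResidueField →+* Ω, ∀ z, h (χ z) = g z := fun g hg => by
      let l : q₁.ResidueField →+* Ω := Ideal.ResidueField.lift q₁ g hg.ge fun z hz => Ne.isUnit fun h => hz (hg ▸ h)
      refine ⟨l.comp e.symm.toRingHom, fun z => ?_⟩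
      show l (e.symm (χ z)) = g z
      have hez : e (algebraMap (P₁ ⊗[P] B) q₁.ResidueField z) = χ z :=
        Ideal.ResidueField.lift_algebraMap q₁ χ.toRingHom le_rfl (fun z hz => Ne.isUnit hz) z
      rw [← hez, RingEquiv.symm_apply_apply]
      exact Ideal.ResidueField.lift_algebraMap q₁ g hg.ge (fun z hz => Ne.isUnit fun h => hz (hg ▸ h)) z
    obtain ⟨h₁, hh₁⟩ := hh g₁ hg₁
    obtain ⟨h₂, hh₂⟩ := hh g₂ hg₂
    have hL : ∀ l : L, h₁ l = h₂ l := by
      intro l
      have hle : Subfield.closure (Set.range ψ) ≤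
          RingHom.eqLocusField (h₁.comp (algebraMap L q.ResidueField)) (h₂.comp (algebraMap L q.ResidueField)) :=
        Subfield.closure_le.mpr fun _ ⟨p, hp⟩ => by
          subst hp
          show h₁ (algebraMap L q.ResidueField (ψ p)) = h₂ (algebraMap L q.ResidueField (ψ p))
          have e : χ (p ⊗ₜ (1 : B)) = algebraMap L q.ResidueField (ψ p) := by
            rw [Algebra.TensorProduct.lift_tmul, map_one, mul_one]
            rfl
          rw [← e, hh₁, hh₂]
          exact RingHom.congr_fun hP p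
      exact hle (hψ ▸ Subfield.mem_top l)
    haveI : IsPurelyInseparable L q.ResidueField := separableClosure.isPurelyInseparable _ _
    letI : Algebra L Ω := (h₁.comp (algebraMap L q.ResidueField)).toAlgebra
    let a₁ : q.ResidueField →ₐ[L] Ω := { h₁ with commutes' := fun _ => rfl }
    let a₂ : q.ResidueField →ₐ[L] Ω := { h₂ with commutes' := fun l => (hL l).symm }
    have : a₁ = a₂ := Subsingleton.elim _ _
    refine RingHom.ext fun z => ?_
    rw [← hh₁, ← hh₂]
    exact DFunLike.congr_fun this (χ z)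
  -- splitting off the point
  obtain ⟨P', _, _, _, ξ, _, _, e, he, q₂, _, _, hq₂, heq₂, -, hfin, huniq⟩ :=
    Algebra.exists_etale_isIdempotentElem_forall_liesOver_eq ξ₁ q₁
  let B₁ := P₁ ⊗[P] B
  let W := P' ⊗[P₁] B₁
  let B' := Localization.Away e
  haveI : Module.Finite P' B' := hfin
  let iB : B →+* B' := (algebraMap W B').comp
    ((Algebra.TensorProduct.includeRight : B₁ →ₐ[P₁] W).toRingHom.comp
      (Algebra.TensorProduct.includeRight : B →ₐ[P] B₁).toRingHom)
  letI : Algebra B B' := iB.toAlgebra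
  letI : Algebra A P₁ := ((algebraMap P P₁).comp (algebraMap A P)).toAlgebra
  haveI : IsScalarTower A P P₁ := IsScalarTower.of_algebraMap_eq fun _ => rfl
  letI : Algebra A P' := ((algebraMap P₁ P').comp (algebraMap A P₁)).toAlgebra
  haveI : IsScalarTower A P₁ P' := IsScalarTower.of_algebraMap_eq fun _ => rfl
  haveI : IsScalarTower A P' B' := IsScalarTower.of_algebraMap_eq fun a => by
    rw [IsScalarTower.algebraMap_apply A W B', IsScalarTower.algebraMap_apply A P' W,
      ← IsScalarTower.algebraMap_apply P' W B']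
  haveI : IsScalarTower A B B' := IsScalarTower.of_algebraMap_eq fun a => by
    show _ = iB (algebraMap A B a)
    rw [IsScalarTower.algebraMap_apply A P' B']
    show algebraMap P' B' (algebraMap P₁ P' (algebraMap P P₁ (algebraMap A P a))) = iB (algebraMap A B a)
    rw [IsScalarTower.algebraMap_apply P' W B']
    show algebraMap W B' ((algebraMap P₁ P' (algebraMap P P₁ (algebraMap A P a))) ⊗ₜ[P₁] (1 : B₁)) =
      algebraMap W B' ((1 : P') ⊗ₜ[P₁] ((1 : P₁) ⊗ₜ[P] (algebraMap A B a)))
    congr 1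
    have e1 : ∀ z : P₁, algebraMap P₁ P' z ⊗ₜ[P₁] (1 : B₁) = (1 : P') ⊗ₜ[P₁] algebraMap P₁ B₁ z := fun z =>
      ((Algebra.TensorProduct.includeRight : B₁ →ₐ[P₁] W).commutes z).symm
    rw [e1]
    congr 1
    show algebraMap P P₁ (algebraMap A P a) ⊗ₜ[P] (1 : B) = (1 : P₁) ⊗ₜ[P] algebraMap A B a
    rw [IsScalarTower.algebraMap_apply A P B]
    exact ((Algebra.TensorProduct.includeRight : B →ₐ[P] P₁ ⊗[P] B).commutes (algebraMap A P a)).symm
  haveI : Module.Flat B B' := by
    show iB.Flat
    refine ((flat_includeRight P P₁ B).comp (flat_includeRight P₁ P' B₁)).comp ?_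
    exact RingHom.flat_algebraMap_iff.mpr (IsLocalization.flat B' (Submonoid.powers e))
  have hpow : Disjoint (Submonoid.powers e : Set W) q₂ :=
    (Ideal.disjoint_powers_iff_notMem_of_isPrime e).mpr heq₂
  let q' := q₂.map (algebraMap W B')
  haveI : q'.IsPrime := IsLocalization.isPrime_of_isPrime_disjoint (.powers e) _ _ ‹_› hpow
  have hq'W : q'.comap (algebraMap W B') = q₂ := IsLocalization.comap_map_of_isPrime_disjoint (.powers e) B' ‹_› hpow
  have hq'q : q'.comap (algebraMap B B') = q := by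
    show q'.comap iB = q
    rw [← Ideal.comap_comap, hq'W, ← Ideal.comap_comap, hq₂, hq₁B]
  have hq₂ξ : q₂.comap (algebraMap P' W) = ξ := (q₂.over_def ξ).symm
  have hq'ξ : q'.comap (algebraMap P' B') = ξ := by
    rw [IsScalarTower.algebraMap_eq P' W B', ← Ideal.comap_comap, hq'W, hq₂ξ]
  have huniq' : ∀ J : Ideal B', J.IsPrime → J.comap (algebraMap P' B') = ξ → J = q' := by
    intro J _ hJ
    have he' : e ∉ J.comap (algebraMap W B') := fun h =>
      Ideal.IsPrime.ne_top ‹J.IsPrime› (Ideal.eq_top_of_isUnit_mem _ h (IsLocalization.Away.algebraMap_isUnit e))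
    haveI : (J.comap (algebraMap W B')).LiesOver ξ :=
      ⟨by rw [Ideal.under, Ideal.comap_comap, ← IsScalarTower.algebraMap_eq, hJ]⟩
    rw [← IsLocalization.map_comap (.powers e) B' J]
    exact congrArg (Ideal.map (algebraMap W B')) (huniq _ inferInstance inferInstance he')
  have hrig : ∀ (Ω : Type u) [Field Ω] (g₁ g₂ : B' →+* Ω), RingHom.ker g₁ = q' → RingHom.ker g₂ = q' →
      g₁.comp (algebraMap P' B') = g₂.comp (algebraMap P' B') → g₁ = g₂ := by
    intro Ω _ g₁ g₂ hg₁ hg₂ hP
    let r : B₁ →+* B' := (algebraMap W B').comp (Algebra.TensorProduct.includeRight : B₁ →ₐ[P₁] W).toRingHom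
    have hker : ∀ g : B' →+* Ω, RingHom.ker g = q' → RingHom.ker (g.comp r) = q₁ := fun g hg => by
      rw [← RingHom.comap_ker, hg, ← Ideal.comap_comap, hq'W, hq₂]
    have hP₁ : ∀ p : P₁, r (algebraMap P₁ B₁ p) = algebraMap P' B' (algebraMap P₁ P' p) := fun p => by
      show algebraMap W B' ((1 : P') ⊗ₜ[P₁] algebraMap P₁ B₁ p) = _
      rw [IsScalarTower.algebraMap_apply P' W B', Algebra.algebraMap_eq_smul_one (A := B₁), TensorProduct.tmul_smul,
        TensorProduct.smul_tmul', ← Algebra.algebraMap_eq_smul_one]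
      rfl
    have h1 := hrig₁ Ω (g₁.comp r) (g₂.comp r) (hker g₁ hg₁) (hker g₂ hg₂) (RingHom.ext fun p => by
      show g₁ (r (algebraMap P₁ B₁ p)) = g₂ (r (algebraMap P₁ B₁ p))
      rw [hP₁]
      exact RingHom.congr_fun hP _)
    refine IsLocalization.ringHom_ext (Submonoid.powers e) (RingHom.ext fun w => ?_)
    induction w using TensorProduct.induction_on with
    | zero => simp
    | add a b ha hb => simp only [map_add, ha, hb]
    | tmul c b =>
      have h2 : (c ⊗ₜ[P₁] b : W) = algebraMap P' W c * ((1 : P') ⊗ₜ[P₁] b) := by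
        show _ = (c ⊗ₜ[P₁] (1 : B₁)) * ((1 : P') ⊗ₜ[P₁] b)
        rw [Algebra.TensorProduct.tmul_mul_tmul, mul_one, one_mul]
      rw [h2, RingHom.comp_apply, RingHom.comp_apply, map_mul, map_mul, map_mul,
        ← IsScalarTower.algebraMap_apply P' W B']
      congr 1
      · exact RingHom.congr_fun hP c
      · exact RingHom.congr_fun h1 b
  obtain ⟨Q', _, hQ'Q, hQ'q'⟩ := exists_prime_over (A := A) (V := V) q q' hq'q Q hQq
  let M' := B' ⊗[B] M
  haveI : SMulCommClass B P' B' := ⟨fun b c x => by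
    rw [Algebra.smul_def, Algebra.smul_def, Algebra.smul_def, Algebra.smul_def]
    exact mul_left_comm _ _ _⟩
  haveI : IsScalarTower P' B' M' := IsScalarTower.of_algebraMap_smul fun c x => by
    induction x using TensorProduct.induction_on with
    | zero => simp
    | add x y hx hy => simp only [smul_add, hx, hy]
    | tmul y m => rw [TensorProduct.smul_tmul', TensorProduct.smul_tmul', algebraMap_smul]
  haveI : IsScalarTower A B' M' := inferInstance
  haveI : IsScalarTower A P' M' := IsScalarTower.of_algebraMap_smul fun a x => by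
    rw [← algebraMap_smul B' (algebraMap A P' a) x, ← IsScalarTower.algebraMap_apply, algebraMap_smul]
  haveI : Module.Finite P' M' := Module.Finite.trans B' M'
  have htf' : TorsionFreeAt A B' V M' π Q' :=
    TorsionFreeAt.of_flat (TensorProduct.mk B B' M 1) (TensorProduct.isBaseChange B M B') Q' hQ'Q htf
  let Qp := Q'.comap (bcMap A P' B' V).toRingHom
  haveI : Qp.IsPrime := Ideal.IsPrime.comap _
  have hQpξ : Qp.comap (Algebra.TensorProduct.includeLeftRingHom : P' →+* P' ⊗[A] V) = ξ := by
    rw [← hq'ξ, ← hQ'q', Ideal.comap_comap, Ideal.comap_comap]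
    congr 1
  haveI : Algebra.Smooth A P := ⟨inferInstance, inferInstance⟩
  haveI : Algebra.Smooth A P₁ := Algebra.Smooth.comp A P P₁
  haveI : Algebra.Smooth A P' := Algebra.Smooth.comp A P₁ P'
  have hdim' : ringKrullDim (P' ⧸ m.map (algebraMap A P')) ≤ (n : WithBot ℕ∞) := by
    letI : Algebra P P' := ((algebraMap P₁ P').comp (algebraMap P P₁)).toAlgebra
    haveI : IsScalarTower P P₁ P' := IsScalarTower.of_algebraMap_eq fun _ => rfl
    haveI : IsScalarTower A P P' := IsScalarTower.of_algebraMap_eq fun _ => rfl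
    haveI : Algebra.QuasiFinite P P₁ := inferInstance
    haveI : Algebra.QuasiFinite P₁ P' := inferInstance
    haveI : Algebra.QuasiFinite P P' := Algebra.QuasiFinite.trans P P₁ P'
    let IP := m.map (algebraMap A P)
    have hIP : IP.map (algebraMap P P') = m.map (algebraMap A P') := by
      rw [Ideal.map_map, ← IsScalarTower.algebraMap_eq]
    letI : Algebra (P ⧸ IP) (P' ⧸ m.map (algebraMap A P')) :=
      (Ideal.quotientMap _ (algebraMap P P') (Ideal.map_le_iff_le_comap.mp hIP.le)).toAlgebra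
    haveI : IsScalarTower P (P ⧸ IP) (P' ⧸ m.map (algebraMap A P')) := IsScalarTower.of_algebraMap_eq fun _ => rfl
    haveI : Algebra.QuasiFinite (P ⧸ IP) (P' ⧸ m.map (algebraMap A P')) := Algebra.QuasiFinite.of_restrictScalars P _ _
    refine (ringKrullDim_le_of_quasiFinite (R := P ⧸ IP)).trans ?_
    let φ : P →+* MvPolynomial (Fin s) k := MvPolynomial.map (algebraMap A k)
    have hφs : Function.Surjective φ := MvPolynomial.map_surjective _ Ideal.Quotient.mk_surjective
    have hker : IP = RingHom.ker φ := by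
      rw [MvPolynomial.ker_map]
      exact congrArg (Ideal.map _) Ideal.mk_ker.symm
    rw [hker, ringKrullDim_eq_of_ringEquiv (RingHom.quotientKerEquivOfSurjective hφs),
      MvPolynomial.ringKrullDim_of_isNoetherianRing, ringKrullDim_eq_zero_of_field, zero_add, Nat.card_fin]
    exact_mod_cast hsn
  refine ⟨{ P := P', M := M', ξ := ξ, hξm := ?_, hdim := hdim', Qp := Qp, hQξ := hQpξ, hQπ := ?_, htf := ?_,
            conclude := fun h => ?_ }⟩
  · rw [← hq'ξ, Ideal.comap_comap, ← IsScalarTower.algebraMap_eq, IsScalarTower.algebraMap_eq A B B',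
      ← Ideal.comap_comap, hq'q, hqm]
  · show bcMap A P' B' V ((1 : P') ⊗ₜ[A] π) ∈ Q'
    rw [bcMap_tmul, map_one]
    have : bcMap A B B' V ((1 : B) ⊗ₜ[A] π) ∈ Q' := by
      rw [← hQ'Q] at hQπ
      exact hQπ
    rwa [bcMap_tmul, map_one] at this
  · exact TorsionFreeAt.of_unique Qp Q' (fun J hJ hJc => unique_over_of_rigid q' ξ huniq' hrig Qp hQpξ J Q' hJc rfl) htf'
  · refine flat_at_descent (M' := M') (TensorProduct.mk B B' M 1) (TensorProduct.isBaseChange B M B') q q' hq'q ?_
    exact flat_at_of_unique ξ q' hq'ξ h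

end Groth.L07.FlatVal
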