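import Groth.Agent.L07.FlatVal.Step
import Groth.Agent.L07.FlatVal.Chart
import Groth.Agent.L03.GeomRegular
import Groth.Agent.L19.SmoothNormal
import Groth.Agent.L01.Regular
import Mathlib.RingTheory.KrullDimension.NonZeroDivisors
import Mathlib.RingTheory.RegularLocalRing.Polynomial

/-!
The valuative criterion of flatness over a normal noetherian local domain (EGA IV 11.6).
-/

universe u

open TensorProduct

namespace Groth.L07.FlatVal

set_option autoImplicit false
set_option linter.style.haveILetI false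
set_option maxSynthPendingDepth 3

variable {A V : Type u} [CommRing A] [IsLocalRing A] [CommRing V] [Algebra A V]

/-- The ring of a closed fibre of a smooth algebra is regular. -/
theorem isRegularRing_fibre (P : Type u) [CommRing P] [Algebra A P] [Algebra.Smooth A P] :
    IsRegularRing (P ⧸ (IsLocalRing.maximalIdeal A).map (algebraMap A P)) := by
  let k := IsLocalRing.ResidueField A
  haveI : IsRegularRing k := inferInstance
  haveI : IsRegularRing (k ⊗[A] P) := Groth.L03.GeomRegular.isRegularRing_of_smooth k _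
  exact IsRegularRing.of_ringEquiv ((Algebra.TensorProduct.comm A k P).toRingEquiv.trans
    (Algebra.TensorProduct.quotIdealMapEquivTensorQuot P (IsLocalRing.maximalIdeal A)).toRingEquiv.symm)

/-- Near a prime of the closed fibre, the closed fibre is a domain. -/
theorem exists_domain_fibre (P : Type u) [CommRing P] [Algebra A P] [Algebra.Smooth A P] (ξ : Ideal P) [ξ.IsPrime]
    (hξ : ξ.comap (algebraMap A P) = IsLocalRing.maximalIdeal A) :
    ∃ g ∉ ξ, IsDomain (Localization.Away g ⧸ (IsLocalRing.maximalIdeal A).map (algebraMap A (Localization.Away g))) := by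
  let IP := (IsLocalRing.maximalIdeal A).map (algebraMap A P)
  have hIξ : IP ≤ ξ := Ideal.map_le_iff_le_comap.mpr hξ.ge
  let mk := Ideal.Quotient.mk IP
  haveI : IsRegularRing (P ⧸ IP) := isRegularRing_fibre P
  haveI : (ξ.map mk).IsPrime :=
    Ideal.map_isPrime_of_surjective Ideal.Quotient.mk_surjective (by rwa [Ideal.mk_ker])
  let L := Localization.AtPrime (ξ.map mk)
  haveI : IsDomain L := Groth.L01.isDomain_of_regular L
  let K := RingHom.ker (algebraMap (P ⧸ IP) L)
  classical
  obtain ⟨G, hG⟩ := (IsNoetherian.noetherian K : K.FG)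
  choose g₀ hg₀ using fun x : G => (IsLocalization.map_eq_zero_iff (ξ.map mk).primeCompl L x.1).mp
    (RingHom.mem_ker.mp (hG.le (Submodule.subset_span x.2)))
  obtain ⟨g, hg⟩ := Ideal.Quotient.mk_surjective ((∏ x, g₀ x : (ξ.map mk).primeCompl) : P ⧸ IP)
  have hgξ : g ∉ ξ := fun h => (∏ x, g₀ x : (ξ.map mk).primeCompl).2 (hg ▸ Ideal.mem_map_of_mem _ h)
  refine ⟨g, hgξ, ?_⟩
  have hgK : ∀ x ∈ K, mk g * x = 0 := by
    intro x hx
    rw [← hG] at hx
    induction hx using Submodule.span_induction with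
    | zero => rw [mul_zero]
    | add x y _ _ hx hy => rw [mul_add, hx, hy, add_zero]
    | smul r x _ hx => rw [smul_eq_mul, mul_left_comm, hx, mul_zero]
    | mem x hx =>
      rw [hg, Submonoid.coe_finsetProd, ← Finset.mul_prod_erase _ _ (Finset.mem_univ (⟨x, hx⟩ : G)), mul_comm (g₀ _ : P ⧸ IP),
        mul_assoc, hg₀, mul_zero]
  let Pg := Localization.Away g
  let φ : P →+* L := (algebraMap (P ⧸ IP) L).comp mk
  have hu : IsUnit (φ g) := IsLocalization.map_units L
    (⟨mk g, fun h => hgξ (by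
      have h' : g ∈ (ξ.map mk).comap mk := h
      rwa [Ideal.comap_map_of_surjective _ Ideal.Quotient.mk_surjective, ← RingHom.ker_eq_comap_bot, Ideal.mk_ker,
        sup_eq_left.mpr hIξ] at h')⟩ : (ξ.map mk).primeCompl)
  let ψ : Pg →+* L := IsLocalization.Away.lift g hu
  have hker : (IsLocalRing.maximalIdeal A).map (algebraMap A Pg) = RingHom.ker ψ := by
    rw [IsScalarTower.algebraMap_eq A P Pg, ← Ideal.map_map]
    refine le_antisymm (Ideal.map_le_iff_le_comap.mpr fun x hx => ?_) fun x hx => ?_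
    · show ψ (algebraMap P Pg x) = 0
      rw [show ψ (algebraMap P Pg x) = φ x from IsLocalization.Away.lift_eq g hu x]
      show algebraMap (P ⧸ IP) L (mk x) = 0
      rw [Ideal.Quotient.eq_zero_iff_mem.mpr hx, map_zero]
    · obtain ⟨⟨p, s⟩, hps⟩ := IsLocalization.surj (Submonoid.powers g) x
      have hp : φ p = 0 := by
        rw [← show ψ (algebraMap P Pg p) = φ p from IsLocalization.Away.lift_eq g hu p, ← hps, map_mul]
        exact mul_eq_zero_of_left (RingHom.mem_ker.mp hx) _
      have hgp : g * p ∈ IP := by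
        rw [← Ideal.Quotient.eq_zero_iff_mem, map_mul]
        exact hgK _ hp
      have h1 := Ideal.mem_map_of_mem (algebraMap P Pg) hgp
      rw [map_mul] at h1
      have h2 : algebraMap P Pg p ∈ IP.map (algebraMap P Pg) :=
        (Ideal.unit_mul_mem_iff_mem _ (IsLocalization.Away.algebraMap_isUnit g)).mp h1
      rw [← hps] at h2
      exact (Ideal.mul_unit_mem_iff_mem _ (IsLocalization.map_units Pg s)).mp h2
  rw [hker]
  haveI : (RingHom.ker ψ).IsPrime := RingHom.ker_isPrime ψ
  exact Ideal.Quotient.isDomain _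

variable [IsDomain A] [IsNoetherianRing A] [IsDomain V] [IsDiscreteValuationRing V] [IsLocalHom (algebraMap A V)]

set_option maxHeartbeats 1000000 in
/-- The induction step over a smooth algebra with integral closed fibre. -/
theorem flat_smooth_step (hA : EGA4.IsNormalRing A) (hinj : Function.Injective (algebraMap A V)) {π : V}
    (hπ : IsLocalRing.maximalIdeal V = Ideal.span {π}) (n : ℕ)
    (IH : ∀ n' < n, ∀ (B M : Type u) [CommRing B] [Algebra A B] [Algebra.FiniteType A B] [AddCommGroup M] [Module A M]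
      [Module B M] [IsScalarTower A B M] [Module.Finite B M] (q : Ideal B) [q.IsPrime],
      q.comap (algebraMap A B) = IsLocalRing.maximalIdeal A →
      ringKrullDim (B ⧸ (IsLocalRing.maximalIdeal A).map (algebraMap A B)) ≤ (n' : WithBot ℕ∞) →
      ∀ (Q : Ideal (B ⊗[A] V)) [Q.IsPrime],
      Q.comap (Algebra.TensorProduct.includeLeftRingHom : B →+* B ⊗[A] V) = q → (1 : B) ⊗ₜ[A] π ∈ Q →
      TorsionFreeAt A B V M π Q → Module.Flat A (LocalizedModule q.primeCompl M))
    {P M : Type u} [CommRing P] [Algebra A P] [Algebra.Smooth A P] [AddCommGroup M] [Module A M] [Module P M]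
    [IsScalarTower A P M] [Module.Finite P M] [IsDomain (P ⧸ (IsLocalRing.maximalIdeal A).map (algebraMap A P))]
    (ξ : Ideal P) [ξ.IsPrime] (hξm : ξ.comap (algebraMap A P) = IsLocalRing.maximalIdeal A)
    (hdim : ringKrullDim (P ⧸ (IsLocalRing.maximalIdeal A).map (algebraMap A P)) ≤ (n : WithBot ℕ∞))
    (Qp : Ideal (P ⊗[A] V)) [Qp.IsPrime]
    (hQξ : Qp.comap (Algebra.TensorProduct.includeLeftRingHom : P →+* P ⊗[A] V) = ξ) (hQπ : (1 : P) ⊗ₜ[A] π ∈ Qp)
    (htf : TorsionFreeAt A P V M π Qp) : Module.Flat A (LocalizedModule ξ.primeCompl M) := by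
  haveI : IsNoetherianRing P := Algebra.FiniteType.isNoetherianRing A P
  haveI : IsDomain (Localization.AtPrime ξ) := (Groth.L19.SmoothNormal.isNormalRing_of_smooth A P hA ξ).1
  obtain ⟨r, α, c, hc, hck, hker, htf'⟩ := exists_step hinj ξ hπ Qp hQξ hQπ htf
  refine flat_of_step ξ α hker ?_
  let M' := M ⧸ LinearMap.range α
  have hcM : ∀ y : M', c • y = 0 := fun y => by
    obtain ⟨y, rfl⟩ := Submodule.Quotient.mk_surjective _ y
    rw [← Submodule.Quotient.mk_smul, Submodule.Quotient.mk_eq_zero]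
    exact hck y
  by_cases hcξ : c ∈ ξ
  swap
  · haveI : Subsingleton (LocalizedModule ξ.primeCompl M') :=
      LocalizedModule.subsingleton_iff.mpr fun y => ⟨c, hcξ, hcM y⟩
    exact Module.Flat.of_free
  let IP := (IsLocalRing.maximalIdeal A).map (algebraMap A P)
  let J : Ideal P := Ideal.span {c}
  let B := P ⧸ J
  have htors : Module.IsTorsionBySet P M' (J : Set P) := by
    intro y ⟨x, hx⟩
    obtain ⟨d, rfl⟩ := Ideal.mem_span_singleton'.mp hx
    show (d * c) • y = 0
    rw [mul_smul, hcM, smul_zero]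
  letI : Module B M' := htors.module
  haveI : IsScalarTower P B M' := htors.isScalarTower
  haveI : IsScalarTower A B M' := IsScalarTower.of_algebraMap_smul fun a y => by
    show Ideal.Quotient.mk J (algebraMap A P a) • y = a • y
    rw [← Ideal.Quotient.algebraMap_eq, algebraMap_smul, algebraMap_smul]
  haveI : Module.Finite B M' := Module.Finite.of_restrictScalars_finite P B M'
  haveI : Algebra.FiniteType A B := Algebra.FiniteType.of_surjective (Ideal.Quotient.mkₐ A J) Ideal.Quotient.mk_surjective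
  have hJξ : J ≤ ξ := (Ideal.span_singleton_le_iff_mem ξ).mpr hcξ
  haveI : (ξ.map (algebraMap P B)).IsPrime :=
    Ideal.map_isPrime_of_surjective Ideal.Quotient.mk_surjective (le_of_eq_of_le Ideal.mk_ker hJξ)
  let q := ξ.map (algebraMap P B)
  have hq : q.comap (algebraMap P B) = ξ := by
    show (ξ.map (algebraMap P B)).comap (algebraMap P B) = ξ
    rw [Ideal.Quotient.algebraMap_eq, Ideal.comap_map_of_surjective _ Ideal.Quotient.mk_surjective,
      ← RingHom.ker_eq_comap_bot, Ideal.mk_ker, sup_eq_left.mpr hJξ]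
  have hqm : q.comap (algebraMap A B) = IsLocalRing.maximalIdeal A := by
    rw [IsScalarTower.algebraMap_eq A P B, ← Ideal.comap_comap, hq, hξm]
  -- dimensions
  let IB := (IsLocalRing.maximalIdeal A).map (algebraMap A B)
  have hIB : IB = IP.map (Ideal.Quotient.mk J) := by
    show (IsLocalRing.maximalIdeal A).map (algebraMap A B) = _
    rw [IsScalarTower.algebraMap_eq A P B, ← Ideal.map_map]
    rfl
  let cbar := Ideal.Quotient.mk IP c
  have hcbar : cbar ≠ 0 := fun h => hc (Ideal.Quotient.eq_zero_iff_mem.mp h)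
  have hdimB : ringKrullDim (B ⧸ IB) + 1 ≤ (n : WithBot ℕ∞) := by
    refine le_trans (le_of_eq ?_) ((ringKrullDim_quotient_succ_le_of_nonZeroDivisor
      (mem_nonZeroDivisors_of_ne_zero hcbar)).trans hdim)
    congr 1
    rw [hIB]
    refine (ringKrullDim_eq_of_ringEquiv (DoubleQuot.quotQuotEquivComm J IP)).trans
      (ringKrullDim_eq_of_ringEquiv (Ideal.quotEquivOfEq ?_))
    rw [Ideal.map_span, Set.image_singleton]
  haveI : Nontrivial (B ⧸ IB) := Ideal.Quotient.nontrivial_iff.mpr fun h => Ideal.IsPrime.ne_top ‹q.IsPrime›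
    (top_le_iff.mp (h ▸ Ideal.map_le_iff_le_comap.mpr hqm.ge))
  obtain ⟨n', rfl⟩ : ∃ n', n = n' + 1 := by
    refine Nat.exists_eq_succ_of_ne_zero fun h0 => ?_
    subst h0
    have h1 : (1 : WithBot ℕ∞) ≤ ((0 : ℕ) : WithBot ℕ∞) :=
      le_trans (le_add_of_nonneg_left ringKrullDim_nonneg_of_nontrivial) hdimB
    exact absurd h1 (by norm_num)
  have hdimB' : ringKrullDim (B ⧸ IB) ≤ (n' : WithBot ℕ∞) := by
    revert hdimB
    generalize ringKrullDim (B ⧸ IB) = d
    intro hd
    cases d with
    | bot => exact bot_le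
    | coe d =>
      have hd' : ((d + 1 : ℕ∞) : WithBot ℕ∞) ≤ (((n' + 1 : ℕ) : ℕ∞) : WithBot ℕ∞) := by exact_mod_cast hd
      rw [WithBot.coe_le_coe, Nat.cast_add, Nat.cast_one] at hd'
      exact WithBot.coe_le_coe.mpr ((ENat.add_le_add_iff_right ENat.one_ne_top).mp hd')
  obtain ⟨Q, _, hQQp, hQq⟩ := exists_prime_over (A := A) (V := V) ξ q hq Qp hQξ
  have hQπ' : (1 : B) ⊗ₜ[A] π ∈ Q := by
    rw [← hQQp] at hQπ
    have h1 : bcMap A P B V ((1 : P) ⊗ₜ[A] π) ∈ Q := hQπ
    rwa [bcMap_tmul, map_one] at h1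
  have h := IH n' (Nat.lt_succ_self _) B M' q hqm hdimB' Q hQq hQπ' (TorsionFreeAt.of_surjective Qp Q hQQp htf')
  rw [Groth.L20.flat_localizedModule_iff_forall] at h ⊢
  intro K z hz
  obtain ⟨t, ht, htz⟩ := h K z hz
  obtain ⟨s, rfl⟩ := Ideal.Quotient.mk_surjective t
  refine ⟨s, fun hmem => ht (Ideal.mem_map_of_mem _ hmem), ?_⟩
  rw [← htz]
  clear htz hz
  induction z using TensorProduct.induction_on with
  | zero => simp
  | add a b ha hb => simp only [smul_add, ha, hb]
  | tmul m j =>
    rw [TensorProduct.smul_tmul', TensorProduct.smul_tmul', ← Ideal.Quotient.algebraMap_eq, algebraMap_smul]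

set_option maxHeartbeats 1000000 in
/-- The valuative criterion of flatness over a normal noetherian local domain. -/
theorem flat_core (hA : EGA4.IsNormalRing A) (hinj : Function.Injective (algebraMap A V)) {π : V}
    (hπ : IsLocalRing.maximalIdeal V = Ideal.span {π}) :
    ∀ (n : ℕ) (B M : Type u) [CommRing B] [Algebra A B] [Algebra.FiniteType A B] [AddCommGroup M] [Module A M]
      [Module B M] [IsScalarTower A B M] [Module.Finite B M] (q : Ideal B) [q.IsPrime],
      q.comap (algebraMap A B) = IsLocalRing.maximalIdeal A →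
      ringKrullDim (B ⧸ (IsLocalRing.maximalIdeal A).map (algebraMap A B)) ≤ (n : WithBot ℕ∞) →
      ∀ (Q : Ideal (B ⊗[A] V)) [Q.IsPrime],
      Q.comap (Algebra.TensorProduct.includeLeftRingHom : B →+* B ⊗[A] V) = q → (1 : B) ⊗ₜ[A] π ∈ Q →
      TorsionFreeAt A B V M π Q → Module.Flat A (LocalizedModule q.primeCompl M) := by
  intro n
  induction n using Nat.strong_induction_on with
  | _ n IH =>
  intro B M _ _ _ _ _ _ _ _ q _ hqm hdim Q _ hQq hQπ htf
  obtain ⟨D⟩ := exists_chart q hqm n hdim Q hQq hQπ htf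
  refine D.conclude ?_
  obtain ⟨g, hg, hdom⟩ := exists_domain_fibre D.P D.ξ D.hξm
  let P := Localization.Away g
  haveI : Algebra.Smooth A P := Algebra.Smooth.comp A D.P P
  let ξ := D.ξ.map (algebraMap D.P P)
  have hpow : Disjoint (Submonoid.powers g : Set D.P) D.ξ := (Ideal.disjoint_powers_iff_notMem_of_isPrime g).mpr hg
  haveI : ξ.IsPrime := IsLocalization.isPrime_of_isPrime_disjoint (.powers g) _ _ D.hξ hpow
  have hξ : ξ.comap (algebraMap D.P P) = D.ξ := IsLocalization.under_map_of_isPrime_disjoint (.powers g) P D.hξ hpow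
  obtain ⟨Qp, _, hQp, hQpξ⟩ := exists_prime_over (A := A) (V := V) D.ξ ξ hξ D.Qp D.hQξ
  haveI : Module.Flat D.P P := IsLocalization.flat P (Submonoid.powers g)
  let M' := P ⊗[D.P] D.M
  haveI : IsScalarTower A P M' := inferInstance
  refine flat_at_descent (M' := M') (TensorProduct.mk D.P P D.M 1) (TensorProduct.isBaseChange D.P D.M P) D.ξ ξ hξ ?_
  refine flat_smooth_step hA hinj hπ n IH ξ ?_ ?_ Qp hQpξ ?_
    (TorsionFreeAt.of_flat (TensorProduct.mk D.P P D.M 1) (TensorProduct.isBaseChange D.P D.M P) Qp hQp D.htf)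
  · rw [IsScalarTower.algebraMap_eq A D.P P, ← Ideal.comap_comap, hξ, D.hξm]
  · refine le_trans ?_ D.hdim
    let ID := (IsLocalRing.maximalIdeal A).map (algebraMap A D.P)
    have hID : ID.map (algebraMap D.P P) = (IsLocalRing.maximalIdeal A).map (algebraMap A P) := by
      rw [Ideal.map_map, ← IsScalarTower.algebraMap_eq]
    letI : Algebra (D.P ⧸ ID) (P ⧸ (IsLocalRing.maximalIdeal A).map (algebraMap A P)) :=
      (Ideal.quotientMap _ (algebraMap D.P P) (Ideal.map_le_iff_le_comap.mp hID.le)).toAlgebra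
    haveI : IsScalarTower D.P (D.P ⧸ ID) (P ⧸ (IsLocalRing.maximalIdeal A).map (algebraMap A P)) :=
      IsScalarTower.of_algebraMap_eq fun _ => rfl
    haveI : Algebra.QuasiFinite D.P D.P := inferInstance
    haveI : Algebra.QuasiFinite D.P P := Algebra.QuasiFinite.of_isLocalization (R := D.P) (S := D.P) (Submonoid.powers g)
    haveI : Algebra.QuasiFinite (D.P ⧸ ID) (P ⧸ (IsLocalRing.maximalIdeal A).map (algebraMap A P)) :=
      Algebra.QuasiFinite.of_restrictScalars D.P _ _
    exact ringKrullDim_le_of_quasiFinite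
  · show (1 : P) ⊗ₜ[A] π ∈ Qp
    have h1 : (1 : D.P) ⊗ₜ[A] π ∈ Qp.comap (bcMap A D.P P V).toRingHom := hQp ▸ D.hQπ
    have h2 : bcMap A D.P P V ((1 : D.P) ⊗ₜ[A] π) ∈ Qp := h1
    rwa [bcMap_tmul, map_one] at h2

end Groth.L07.FlatVal
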