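import Groth.Agent.L20.FlatLocusOpen
import Groth.Agent.L20.FlatAtBaseChange
import Groth.Agent.S6884
import Mathlib.RingTheory.Spectrum.Prime.Topology
import Mathlib.RingTheory.Localization.BaseChange
import Mathlib.RingTheory.TensorProduct.Finite

/-!
Descent of flatness at a prime along an injective integral homomorphism.
-/

universe u

open TensorProduct

namespace Groth.L07.FlatVal

set_option autoImplicit false
set_option linter.style.haveILetI false
set_option maxSynthPendingDepth 3

attribute [local instance] Algebra.TensorProduct.rightAlgebra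

/-- Flatness at a prime descends along an injective integral homomorphism. -/
theorem flat_at_of_integral_injective {A A₁ B M : Type u} [CommRing A] [CommRing A₁] [Algebra A A₁]
    [Algebra.IsIntegral A A₁] (hinj : Function.Injective (algebraMap A A₁)) [CommRing B] [Algebra A B]
    [Algebra.FinitePresentation A B] [AddCommGroup M] [Module A M] [Module B M] [IsScalarTower A B M]
    [Module.FinitePresentation B M] (q : Ideal B) [q.IsPrime]
    (h : ∀ q₁ : Ideal (B ⊗[A] A₁), ∀ _ : q₁.IsPrime,
      q₁.comap (Algebra.TensorProduct.includeLeftRingHom : B →+* B ⊗[A] A₁) = q →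
      Module.Flat A₁ (LocalizedModule q₁.primeCompl ((B ⊗[A] A₁) ⊗[B] M))) :
    Module.Flat A (LocalizedModule q.primeCompl M) := by
  classical
  let S := B ⊗[A] A₁
  let M₁ := S ⊗[B] M
  haveI : Algebra.FinitePresentation A₁ S := Algebra.FinitePresentation.equiv
    (Algebra.TensorProduct.commRight A A₁ B : A₁ ⊗[A] B ≃ₐ[A₁] B ⊗[A] A₁)
  haveI : Module.FinitePresentation S M₁ := inferInstance
  let W := {p : PrimeSpectrum S | Module.Flat A₁ (LocalizedModule p.asIdeal.primeCompl M₁)}
  have hW : IsOpen W := Groth.L20.isOpen_flatLocus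
  have hSint : (algebraMap B S).IsIntegral := fun x => by
    induction x using TensorProduct.induction_on with
    | zero => exact RingHom.isIntegralElem_zero _
    | add a b ha hb => exact RingHom.IsIntegralElem.add _ ha hb
    | tmul c v =>
      have h1 : IsIntegral B ((1 : B) ⊗ₜ[A] v : S) :=
        ((Algebra.IsIntegral.isIntegral (R := A) v).map
          (Algebra.TensorProduct.includeRight : A₁ →ₐ[A] S)).tower_top
      have h2 : (c ⊗ₜ[A] v : S) = c • ((1 : B) ⊗ₜ[A] v) := by
        rw [TensorProduct.smul_tmul', smul_eq_mul, mul_one]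
      rw [h2]
      exact h1.smul c
  have hC : IsClosed (PrimeSpectrum.comap (algebraMap B S) '' Wᶜ) :=
    PrimeSpectrum.isClosedMap_comap_of_isIntegral _ hSint _ hW.isClosed_compl
  obtain ⟨_, ⟨f, rfl⟩, hqf, hfC⟩ := PrimeSpectrum.isTopologicalBasis_basic_opens.exists_subset_of_mem_open
    (a := (⟨q, inferInstance⟩ : PrimeSpectrum B))
    (show _ ∈ (PrimeSpectrum.comap (algebraMap B S) '' Wᶜ)ᶜ from fun ⟨z, hz, hzq⟩ =>
      hz (h z.asIdeal inferInstance (congrArg PrimeSpectrum.asIdeal hzq))) hC.isOpen_compl
  let f₁ := algebraMap B S f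
  -- flatness over the basic open
  have hflat : Module.Flat A₁ (LocalizedModule (Submonoid.powers f₁) M₁) := by
    rw [Groth.L20.flat_localizedModule_iff_forall]
    intro J z hz
    let a : Ideal S := LinearMap.ker (LinearMap.toSpanSingleton S _ z)
    have hrad : f₁ ∈ a.radical := by
      rw [Ideal.radical_eq_sInf, Submodule.mem_sInf]
      rintro P ⟨haP, hP⟩
      haveI : Ideal.IsPrime P := hP
      by_contra hfP
      have hPW : (⟨P, hP⟩ : PrimeSpectrum S) ∈ W := by
        by_contra hn
        exact hfC (show PrimeSpectrum.comap (algebraMap B S) ⟨P, hP⟩ ∈ PrimeSpectrum.basicOpen f from hfP)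
          ⟨_, hn, rfl⟩
      obtain ⟨t, ht, htz⟩ := Groth.L20.flat_localizedModule_iff_forall (Ideal.primeCompl P) |>.mp hPW J z hz
      exact ht (haP (by simpa [a] using htz))
    obtain ⟨k, hk⟩ := hrad
    exact ⟨f₁ ^ k, ⟨k, rfl⟩, by simpa [a] using hk⟩
  -- the basic open
  let Bf := Localization.Away f
  let Sf := Localization.Away f₁
  let N := LocalizedModule (Submonoid.powers f₁) M₁
  letI : Algebra Bf Sf := (IsLocalization.Away.lift f
    (g := (algebraMap S Sf).comp (algebraMap B S)) (IsLocalization.Away.algebraMap_isUnit f₁)).toAlgebra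
  haveI : IsScalarTower B Bf Sf := IsScalarTower.of_algebraMap_eq fun b => by
    rw [IsScalarTower.algebraMap_apply B S Sf]
    exact (IsLocalization.Away.lift_eq (S := Bf) f (g := (algebraMap S Sf).comp (algebraMap B S))
      (IsLocalization.Away.algebraMap_isUnit f₁) b).symm
  haveI : IsLocalization (Algebra.algebraMapSubmonoid S (Submonoid.powers f)) Sf := by
    rw [Algebra.algebraMapSubmonoid, Submonoid.map_powers]
    exact inferInstanceAs (IsLocalization (Submonoid.powers f₁) (Localization.Away f₁))
  haveI : Algebra.IsPushout B Bf S Sf := .symm (Algebra.isPushout_of_isLocalization (Submonoid.powers f) Bf S Sf)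
  haveI : IsScalarTower A Bf Sf := IsScalarTower.of_algebraMap_eq fun a => by
    rw [IsScalarTower.algebraMap_apply A B Bf, ← IsScalarTower.algebraMap_apply B Bf Sf,
      ← IsScalarTower.algebraMap_apply A B Sf]
  haveI : IsScalarTower A A₁ Sf := IsScalarTower.of_algebraMap_eq fun a => by
    rw [IsScalarTower.algebraMap_apply A S Sf, IsScalarTower.algebraMap_apply A A₁ S,
      ← IsScalarTower.algebraMap_apply A₁ S Sf]
  haveI : Algebra.IsPushout A A₁ B S := .symm inferInstance
  haveI : Algebra.IsPushout A B A₁ S := .symm inferInstance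
  haveI : Algebra.IsPushout A Bf A₁ Sf :=
    (Algebra.IsPushout.comp_iff (R := A) (S := B) (R' := A₁) (S' := S) (T := Bf) (T' := Sf)).mpr
      inferInstance
  let Mf := Bf ⊗[B] M
  letI : Module Bf N := Module.compHom N (algebraMap Bf Sf)
  haveI : IsScalarTower Bf Sf N := IsScalarTower.of_algebraMap_smul fun _ _ => rfl
  haveI : IsScalarTower B Bf N := IsScalarTower.of_algebraMap_smul fun b x => by
    show algebraMap Bf Sf (algebraMap B Bf b) • x = b • x
    rw [← IsScalarTower.algebraMap_apply, IsScalarTower.algebraMap_apply B S Sf, algebraMap_smul, algebraMap_smul]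
  haveI : IsScalarTower B Sf N := IsScalarTower.of_algebraMap_smul fun b x => by
    rw [IsScalarTower.algebraMap_apply B S Sf, algebraMap_smul, algebraMap_smul]
  have hM : IsBaseChange S (TensorProduct.mk B S M 1) := TensorProduct.isBaseChange B M S
  have hN : IsBaseChange Sf ((LocalizedModule.mkLinearMap (Submonoid.powers f₁) M₁).restrictScalars B ∘ₗ
      TensorProduct.mk B S M 1) :=
    hM.comp (IsLocalizedModule.isBaseChange (Submonoid.powers f₁) Sf (LocalizedModule.mkLinearMap (Submonoid.powers f₁) M₁))
  have hMf : IsBaseChange Bf (TensorProduct.mk B Bf M 1) := TensorProduct.isBaseChange B M Bf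
  let g : Mf →ₗ[Bf] N := hMf.lift ((LocalizedModule.mkLinearMap (Submonoid.powers f₁) M₁).restrictScalars B ∘ₗ
    TensorProduct.mk B S M 1)
  have hg : IsBaseChange Sf g := by
    refine IsBaseChange.of_comp hMf ?_
    convert hN using 1
    exact LinearMap.ext fun x => hMf.lift_eq _ x
  haveI : IsScalarTower A A₁ N := IsScalarTower.of_algebraMap_smul fun a x => by
    rw [← algebraMap_smul S (algebraMap A A₁ a) x, ← IsScalarTower.algebraMap_apply, algebraMap_smul]
  haveI : IsScalarTower A₁ Sf N := IsScalarTower.of_algebraMap_smul fun a x => by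
    rw [IsScalarTower.algebraMap_apply A₁ S Sf, algebraMap_smul, algebraMap_smul]
  haveI : IsScalarTower A Bf N := IsScalarTower.of_algebraMap_smul fun a x => by
    rw [IsScalarTower.algebraMap_apply A B Bf, algebraMap_smul, algebraMap_smul]
  have hgA : IsBaseChange A₁ (g.restrictScalars A) := Groth.L20.isBaseChange_restrictScalars hg
  haveI : Module.Flat A₁ (A₁ ⊗[A] Mf) := by
    haveI := hflat
    exact Module.Flat.of_linearEquiv hgA.equiv
  haveI : Algebra.FinitePresentation A Bf :=
    haveI : Algebra.FinitePresentation B Bf := IsLocalization.Away.finitePresentation f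
    Algebra.FinitePresentation.trans A B Bf
  obtain ⟨n, π, hπ, hker⟩ := ‹Algebra.FinitePresentation A Bf›.out
  letI : Algebra (MvPolynomial (Fin n) A) Bf := π.toRingHom.toAlgebra
  haveI : IsScalarTower A (MvPolynomial (Fin n) A) Bf :=
    IsScalarTower.of_algebraMap_eq fun a => (π.commutes a).symm
  haveI : Module.FinitePresentation (MvPolynomial (Fin n) A) Bf :=
    Module.finitePresentation_of_surjective (Algebra.linearMap (MvPolynomial (Fin n) A) Bf) hπ hker
  haveI : SMulCommClass B (MvPolynomial (Fin n) A) Bf := ⟨fun b c x => by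
    rw [Algebra.smul_def, Algebra.smul_def, Algebra.smul_def, Algebra.smul_def]
    exact mul_left_comm _ _ _⟩
  haveI : IsScalarTower (MvPolynomial (Fin n) A) Bf Mf := IsScalarTower.of_algebraMap_smul fun c x => by
    induction x using TensorProduct.induction_on with
    | zero => simp
    | add x y hx hy => simp only [smul_add, hx, hy]
    | tmul y m => rw [TensorProduct.smul_tmul', TensorProduct.smul_tmul', algebraMap_smul]
  haveI : IsScalarTower A (MvPolynomial (Fin n) A) Mf := IsScalarTower.of_algebraMap_smul fun a x => by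
    rw [← algebraMap_smul Bf (algebraMap A (MvPolynomial (Fin n) A) a) x, ← IsScalarTower.algebraMap_apply,
      algebraMap_smul]
  haveI : Module.FinitePresentation Bf Mf := inferInstance
  haveI : Module.FinitePresentation (MvPolynomial (Fin n) A) Mf :=
    Module.FinitePresentation.trans (MvPolynomial (Fin n) A) Mf Bf
  haveI : Module.Flat A Mf := Groth.Agent.S6884.result A A₁ hinj n Mf
  haveI : Module.Flat B Bf := IsLocalization.flat Bf (Submonoid.powers f)
  refine Groth.L20.flat_localizedModule_of_descent (TensorProduct.mk B Bf M 1) hMf q ?_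
  refine fun htop => ?_
  haveI hp : (q.map (algebraMap B Bf)).IsPrime := IsLocalization.isPrime_of_isPrime_disjoint (Submonoid.powers f) _ _ ‹_›
    ((Ideal.disjoint_powers_iff_notMem_of_isPrime f).mpr hqf)
  exact hp.ne_top htop

end Groth.L07.FlatVal
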