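import Groth.Agent.L07.FlatVal.Unibranch
import Groth.Agent.S4433
import Mathlib.RingTheory.Finiteness.Prod
import Mathlib.RingTheory.Ideal.MinimalPrime.Noetherian

/-!
Flatness over reduced noetherian rings from discrete valuation rings (EGA IV 11.8).
-/

universe u

open TensorProduct

namespace Groth.L07.FlatVal

set_option autoImplicit false
set_option linter.style.haveILetI false
set_option maxSynthPendingDepth 3

attribute [local instance] Algebra.TensorProduct.rightAlgebra

section Trans

variable {A B V V' M : Type u} [CommRing A] [CommRing B] [Algebra A B] [CommRing V] [Algebra A V]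
  [CommRing V'] [Algebra A V'] [Algebra V V'] [IsScalarTower A V V'] [AddCommGroup M] [Module B M]

/-- Flatness descends along a flat extension of the parameter ring. -/
theorem FlatBC.of_flat_trans [Module.Flat V V'] {Q' : Ideal (B ⊗[A] V')} [Q'.IsPrime] (h : FlatBC A B V' M Q')
    (Q : Ideal (B ⊗[A] V)) [Q.IsPrime] (hQ : Q'.comap (rMap A B V V').toRingHom = Q) : FlatBC A B V M Q := by
  let S := B ⊗[A] V
  let S' := B ⊗[A] V'
  letI : Algebra S S' := (rMap A B V V').toRingHom.toAlgebra
  letI : Algebra V S' := ((algebraMap V' S').comp (algebraMap V V')).toAlgebra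
  haveI : IsScalarTower V V' S' := IsScalarTower.of_algebraMap_eq fun _ => rfl
  haveI : IsScalarTower A V S' := IsScalarTower.of_algebraMap_eq fun a => by
    rw [IsScalarTower.algebraMap_apply A V' S', IsScalarTower.algebraMap_apply A V V']
    rfl
  haveI : IsScalarTower V S S' := IsScalarTower.of_algebraMap_eq fun v => by
    rw [IsScalarTower.algebraMap_apply V V' S']
    exact (rMap_tmul 1 v).symm
  haveI : IsScalarTower B S S' := IsScalarTower.of_algebraMap_eq fun b => by
    show algebraMap B S' b = rMap A B V V' (b ⊗ₜ[A] (1 : V))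
    rw [rMap_tmul, map_one]
    rfl
  haveI : Algebra.IsPushout A V B S := .symm inferInstance
  haveI : Algebra.IsPushout A V' B S' := .symm inferInstance
  haveI : Algebra.IsPushout V S V' S' :=
    .symm ((Algebra.IsPushout.comp_iff (R := A) (S := V) (R' := B) (S' := S) (T := V') (T' := S')).mp inferInstance)
  haveI : Module.Flat S S' := Module.Flat.isBaseChange V S V' S' (Algebra.IsPushout.out (R := V) (S := S))
  let N' := S' ⊗[B] M
  haveI : IsScalarTower S S' N' := IsScalarTower.of_algebraMap_smul fun s x => by
    induction x using TensorProduct.induction_on with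
    | zero => simp
    | add x y hx hy => simp only [smul_add, hx, hy]
    | tmul y m => rw [TensorProduct.smul_tmul', TensorProduct.smul_tmul', algebraMap_smul]
  haveI : IsScalarTower V S N' := IsScalarTower.of_algebraMap_smul fun v x => by
    induction x using TensorProduct.induction_on with
    | zero => simp
    | add x y hx hy => simp only [smul_add, hx, hy]
    | tmul y m => rw [TensorProduct.smul_tmul', TensorProduct.smul_tmul', algebraMap_smul]
  haveI : IsScalarTower V V' N' := IsScalarTower.of_algebraMap_smul fun v x => by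
    induction x using TensorProduct.induction_on with
    | zero => simp
    | add x y hx hy => simp only [smul_add, hx, hy]
    | tmul y m => rw [TensorProduct.smul_tmul', TensorProduct.smul_tmul', algebraMap_smul]
  haveI : IsScalarTower V S' N' := IsScalarTower.of_algebraMap_smul fun v x => by
    rw [IsScalarTower.algebraMap_apply V S S', algebraMap_smul, algebraMap_smul]
  have h1 : IsBaseChange S (TensorProduct.mk B S M 1) := TensorProduct.isBaseChange B M S
  let g : S ⊗[B] M →ₗ[S] N' := h1.lift (TensorProduct.mk B S' M 1)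
  have hg : IsBaseChange S' g := by
    refine IsBaseChange.of_comp h1 ?_
    convert TensorProduct.isBaseChange B M S' using 1
    exact LinearMap.ext fun x => h1.lift_eq _ x
  refine flat_at_descent g hg Q Q' hQ ?_
  haveI : Module.Flat V' (LocalizedModule Q'.primeCompl N') := h
  haveI : IsScalarTower V V' (LocalizedModule Q'.primeCompl N') := IsScalarTower.of_algebraMap_smul fun s x => by
    rw [← algebraMap_smul S' (algebraMap V V' s) x, ← IsScalarTower.algebraMap_apply, algebraMap_smul]
  exact Module.Flat.trans V V' (LocalizedModule Q'.primeCompl N')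

end Trans

set_option maxHeartbeats 1000000 in
set_option synthInstance.maxHeartbeats 100000 in
/-- Flatness over a noetherian local domain from the discrete valuation rings dominating it. -/
theorem flat_of_dvr_domain {A B M : Type u} [CommRing A] [IsLocalRing A] [IsDomain A] [IsNoetherianRing A]
    [CommRing B] [Algebra A B] [Algebra.FiniteType A B] [AddCommGroup M] [Module A M] [Module B M]
    [IsScalarTower A B M] [Module.Finite B M] (q : Ideal B) [q.IsPrime]
    (hqm : q.comap (algebraMap A B) = IsLocalRing.maximalIdeal A)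
    (h : ∀ (R : Type u) [CommRing R] [IsDomain R] [IsDiscreteValuationRing R] [Algebra A R]
      [IsLocalHom (algebraMap A R)], ∀ (Q : Ideal (B ⊗[A] R)) [Q.IsPrime],
      Q.comap (Algebra.TensorProduct.includeLeftRingHom : B →+* B ⊗[A] R) = q →
      Q.comap (algebraMap R (B ⊗[A] R)) = IsLocalRing.maximalIdeal R → FlatBC A B R M Q) :
    Module.Flat A (LocalizedModule q.primeCompl M) := by
  classical
  by_cases hfield : IsField A
  · letI := hfield.toField
    exact Module.Flat.of_free
  haveI : Algebra.FinitePresentation A B := Algebra.FinitePresentation.of_finiteType.mp inferInstance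
  haveI : IsNoetherianRing B := Algebra.FiniteType.isNoetherianRing A B
  haveI : Module.FinitePresentation B M := Module.finitePresentation_of_finite B M
  refine flat_of_dominated q fun A₁ _ q₁ _ hq₁ => ?_
  haveI : Algebra.IsIntegral A A₁ := Algebra.IsIntegral.of_finite A A₁
  haveI : IsNoetherianRing A₁ := IsNoetherianRing.of_finite A A₁
  let n₁ := q₁.comap (algebraMap A₁ (B ⊗[A] A₁))
  haveI : n₁.IsPrime := Ideal.IsPrime.comap _
  have hn₁ : n₁.comap (algebraMap A A₁) = IsLocalRing.maximalIdeal A := comap_algebraMap_of_left q hqm q₁ hq₁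
  let L := Localization.AtPrime n₁
  haveI : IsNoetherianRing L := IsLocalization.isNoetherianRing n₁.primeCompl L inferInstance
  have hle : (n₁.primeCompl : Submonoid A₁) ≤ nonZeroDivisors A₁ :=
    le_nonZeroDivisors_of_noZeroDivisors (not_not_intro n₁.zero_mem)
  haveI : IsDomain L := IsLocalization.isDomain_localization hle
  have hinjA : Function.Injective (algebraMap A A₁) := fun a b hab =>
    IsFractionRing.injective A (FractionRing A) (congrArg Subtype.val hab)
  have hL : ¬ IsField L := by
    intro hf
    apply hfield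
    rw [IsLocalRing.isField_iff_maximalIdeal_eq] at hf ⊢
    refine le_antisymm (fun a ha => Ideal.mem_bot.mpr ?_) bot_le
    have h1 : algebraMap A A₁ a ∈ n₁ := by
      rw [← hn₁] at ha
      exact ha
    have h2 := (IsLocalization.AtPrime.to_map_mem_maximal_iff L n₁ _).mpr h1
    rw [hf, Ideal.mem_bot] at h2
    exact hinjA ((IsLocalization.injective L hle (h2.trans (map_zero _).symm)).trans (map_zero _).symm)
  obtain ⟨R, _, _, hR, j, hjinj, hj⟩ : ∃ (R : Type u) (_ : CommRing R) (_ : IsDomain R)
      (_ : IsDiscreteValuationRing R) (j : L →+* R),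
      Function.Injective j ∧ (IsLocalRing.maximalIdeal R).comap j = IsLocalRing.maximalIdeal L := by
    obtain ⟨R, hR, hLR, hdom⟩ := Groth.Agent.S4433.result L hL (FractionRing L) (FractionRing L)
      ⟨∅, by simp [IntermediateField.adjoin_empty]; exact Subsingleton.elim _ _⟩
    haveI := hR
    let j : L →+* R := (algebraMap L (FractionRing L)).codRestrict R.toSubring hLR
    have hj : (IsLocalRing.maximalIdeal R).comap j = IsLocalRing.maximalIdeal L := by
      refine ((IsLocalRing.maximalIdeal.isMaximal L).eq_of_le (Ideal.IsPrime.ne_top inferInstance) fun d hd => ?_).symm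
      rw [Ideal.mem_comap, IsLocalRing.mem_maximalIdeal, mem_nonunits_iff]
      intro hu
      exact ((R.valuation_eq_one_iff (j d)).mp hu).not_lt (hdom d hd)
    exact ⟨R, inferInstance, inferInstance, hR, j,
      fun a b hab => IsFractionRing.injective L (FractionRing L) (congrArg Subtype.val hab), hj⟩
  letI : Algebra A₁ R := (j.comp (algebraMap A₁ L)).toAlgebra
  letI : Algebra A R := ((algebraMap A₁ R).comp (algebraMap A A₁)).toAlgebra
  haveI : IsScalarTower A A₁ R := IsScalarTower.of_algebraMap_eq fun _ => rfl
  have hn : (IsLocalRing.maximalIdeal R).comap (algebraMap A₁ R) = n₁ := by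
    show (IsLocalRing.maximalIdeal R).comap (j.comp (algebraMap A₁ L)) = n₁
    rw [← Ideal.comap_comap, hj]
    exact IsLocalization.AtPrime.under_maximalIdeal L n₁
  have hnA : (IsLocalRing.maximalIdeal R).comap (algebraMap A R) = IsLocalRing.maximalIdeal A := by
    rw [← hn₁, ← hn, Ideal.comap_comap]
    rfl
  haveI : IsLocalHom (algebraMap A R) := ((IsLocalRing.local_hom_TFAE (algebraMap A R)).out 0 4).mpr hnA
  obtain ⟨Q, _, hQ1, hQ2⟩ := exists_prime_rMap (V := A₁) (V' := R) q₁ (IsLocalRing.maximalIdeal R) hn.symm
  refine ⟨R, inferInstance, inferInstance, inferInstance, inferInstance, inferInstance, Q, inferInstance,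
    hjinj.comp (IsLocalization.injective L hle), hQ2, hQ1, h R Q ?_ hQ2⟩
  rw [← hq₁, ← hQ1, comap_rMap_includeLeft]

set_option maxHeartbeats 1000000 in
/-- Flatness over a reduced noetherian local ring from the discrete valuation rings under it. -/
theorem flat_of_dvr {A B M : Type u} [CommRing A] [IsLocalRing A] [IsReduced A] [IsNoetherianRing A]
    [CommRing B] [Algebra A B] [Algebra.FiniteType A B] [AddCommGroup M] [Module A M] [Module B M]
    [IsScalarTower A B M] [Module.Finite B M] (q : Ideal B) [q.IsPrime]
    (hqm : q.comap (algebraMap A B) = IsLocalRing.maximalIdeal A)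
    (h : ∀ (R : Type u) [CommRing R] [IsDomain R] [IsDiscreteValuationRing R] [Algebra A R]
      [IsLocalHom (algebraMap A R)], ∀ (Q : Ideal (B ⊗[A] R)) [Q.IsPrime],
      Q.comap (Algebra.TensorProduct.includeLeftRingHom : B →+* B ⊗[A] R) = q →
      Q.comap (algebraMap R (B ⊗[A] R)) = IsLocalRing.maximalIdeal R → FlatBC A B R M Q) :
    Module.Flat A (LocalizedModule q.primeCompl M) := by
  classical
  haveI : Algebra.FinitePresentation A B := Algebra.FinitePresentation.of_finiteType.mp inferInstance
  haveI : IsNoetherianRing B := Algebra.FiniteType.isNoetherianRing A B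
  haveI : Module.FinitePresentation B M := Module.finitePresentation_of_finite B M
  let ι := minimalPrimes A
  haveI : Fintype ι := (minimalPrimes.finite_of_isNoetherianRing A).fintype
  haveI : ∀ i : ι, i.1.IsPrime := fun i => Ideal.minimalPrimes_isPrime i.2
  let A₂ := ∀ i : ι, A ⧸ i.1
  haveI : ∀ i : ι, Module.Finite A (A ⧸ i.1) := fun i => inferInstance
  haveI : Module.Finite A A₂ := Module.Finite.pi
  haveI : Algebra.IsIntegral A A₂ := Algebra.IsIntegral.of_finite A A₂
  have hinj : Function.Injective (algebraMap A A₂) := by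
    rw [injective_iff_map_eq_zero]
    intro a ha
    have hmem : a ∈ sInf (minimalPrimes A) := by
      rw [Submodule.mem_sInf]
      intro P hP
      exact Ideal.Quotient.eq_zero_iff_mem.mp (congrFun ha ⟨P, hP⟩)
    rw [minimalPrimes, Ideal.sInf_minimalPrimes] at hmem
    exact (show IsNilpotent a from hmem).eq_zero
  refine flat_at_of_integral_injective hinj q fun q₂ _ hq₂ => ?_
  show FlatBC A B A₂ M q₂
  let n₂ := q₂.comap (algebraMap A₂ (B ⊗[A] A₂))
  haveI : n₂.IsPrime := Ideal.IsPrime.comap _
  obtain ⟨i, hi⟩ : ∃ i : ι, (Pi.single i 1 : A₂) ∉ n₂ := by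
    by_contra! hall
    refine Ideal.IsPrime.ne_top ‹n₂.IsPrime› ((Ideal.eq_top_iff_one _).mpr ?_)
    rw [show (1 : A₂) = ∑ i, Pi.single i 1 from (Finset.univ_sum_single (1 : A₂)).symm]
    exact Ideal.sum_mem _ fun i _ => hall i
  let D := A ⧸ i.1
  letI : Algebra A₂ D := (Pi.evalRingHom (fun i : ι => A ⧸ i.1) i).toAlgebra
  haveI : IsScalarTower A A₂ D := IsScalarTower.of_algebraMap_eq fun _ => rfl
  haveI : Module.Flat A₂ D :=
    Module.Flat.of_retract
      ({ toFun := fun (x : D) => (Pi.single i x : A₂)
         map_add' := fun a b => Pi.single_add (f := fun i : ι => A ⧸ i.1) i a b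
         map_smul' := fun c x => funext fun k => by
           show (Pi.single i (c i * x) : A₂) k = c k * (Pi.single i x : A₂) k
           by_cases hk : k = i
           · subst hk
             rw [Pi.single_eq_same, Pi.single_eq_same]
           · rw [Pi.single_eq_of_ne hk, Pi.single_eq_of_ne hk, mul_zero] } : D →ₗ[A₂] A₂)
      (Algebra.linearMap A₂ D) (LinearMap.ext fun x => Pi.single_eq_same (M := fun i : ι => A ⧸ i.1) i x)
  haveI : IsDomain D := Ideal.Quotient.isDomain _
  haveI : IsLocalRing D := IsLocalRing.of_surjective' (Ideal.Quotient.mk i.1) Ideal.Quotient.mk_surjective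
  haveI : IsLocalHom (Ideal.Quotient.mk i.1) := IsLocalHom.of_surjective _ Ideal.Quotient.mk_surjective
  have hsurj : Function.Surjective (algebraMap A₂ D) := Function.surjective_eval i
  have hker : RingHom.ker (algebraMap A₂ D) ≤ n₂ := fun x hx => by
    have h0 : x * Pi.single i 1 = 0 := funext fun k => by
      by_cases hk : k = i
      · subst hk
        show x k * (Pi.single k 1 : A₂) k = 0
        rw [Pi.single_eq_same, mul_one]
        exact hx
      · show x k * (Pi.single i 1 : A₂) k = 0
        rw [Pi.single_eq_of_ne hk, mul_zero]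
    exact ((Ideal.IsPrime.mem_or_mem ‹n₂.IsPrime› (show x * Pi.single i 1 ∈ n₂ from h0 ▸ zero_mem _))).resolve_right hi
  haveI : (n₂.map (algebraMap A₂ D)).IsPrime := Ideal.map_isPrime_of_surjective hsurj hker
  have hnD : (n₂.map (algebraMap A₂ D)).comap (algebraMap A₂ D) = n₂ := by
    rw [Ideal.comap_map_of_surjective _ hsurj, ← RingHom.ker_eq_comap_bot, sup_eq_left.mpr hker]
  obtain ⟨qD, _, hqD1, -⟩ := exists_prime_rMap (V := A₂) (V' := D) q₂ (n₂.map (algebraMap A₂ D)) hnD.symm
  refine FlatBC.of_flat_trans (V' := D) ?_ q₂ hqD1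
  -- over the domain
  let BD := B ⊗[A] D
  let MD := BD ⊗[B] M
  haveI : IsNoetherianRing D := inferInstance
  haveI : Algebra.FiniteType D BD := Algebra.FiniteType.equiv inferInstance
    (Algebra.TensorProduct.commRight A D B : D ⊗[A] B ≃ₐ[D] B ⊗[A] D)
  have hqDm : qD.comap (algebraMap D BD) = IsLocalRing.maximalIdeal D := by
    haveI : (qD.comap (algebraMap D BD)).IsPrime := Ideal.IsPrime.comap _
    refine Ideal.comap_injective_of_surjective (Ideal.Quotient.mk i.1) Ideal.Quotient.mk_surjective ?_
    have h1 : (qD.comap (algebraMap D BD)).comap (Ideal.Quotient.mk i.1) = IsLocalRing.maximalIdeal A := by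
      rw [← comap_algebraMap_of_left q hqm q₂ hq₂, ← hqD1, comap_rMap_right, Ideal.comap_comap, Ideal.comap_comap,
        Ideal.comap_comap]
      rfl
    rw [h1]
    refine Eq.symm ?_
    exact ((IsLocalRing.local_hom_TFAE (Ideal.Quotient.mk i.1)).out 0 4).mp ‹IsLocalHom (Ideal.Quotient.mk i.1)›
  haveI : Algebra.IsPushout A D B BD := .symm inferInstance
  show Module.Flat D (LocalizedModule qD.primeCompl MD)
  refine flat_of_dvr_domain qD hqDm fun R _ _ _ _ _ Q _ hQ1 hQ2 => ?_
  letI : Algebra A R := ((algebraMap D R).comp (algebraMap A D)).toAlgebra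
  haveI : IsScalarTower A D R := IsScalarTower.of_algebraMap_eq fun _ => rfl
  haveI : IsLocalHom (algebraMap A R) := RingHom.isLocalHom_comp (algebraMap D R) (Ideal.Quotient.mk i.1)
  haveI : (Q.comap (pMap A D B BD R).toRingHom).IsPrime := Ideal.IsPrime.comap _
  refine (flatBC_pushout_iff (TensorProduct.mk B BD M 1) (TensorProduct.isBaseChange B M BD) Q).mpr
    (h R _ ?_ ?_)
  · rw [← hq₂, ← hqD1, comap_rMap_includeLeft, ← hQ1, Ideal.comap_comap, Ideal.comap_comap]
    congr 1
    exact RingHom.ext fun b => pMap_tmul b 1
  · rw [← hQ2, Ideal.comap_comap]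
    congr 1
    exact RingHom.ext fun r => (pMap_tmul 1 r).trans (by rw [map_one]; rfl)

end Groth.L07.FlatVal
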