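import Groth.Agent.L07.FlatVal.Dvr
import Mathlib.RingTheory.LocalProperties.Reduced

/-!
Flatness of a finite module over a reduced noetherian ring from base changes to discrete valuation rings.
-/

universe u

open TensorProduct

namespace Groth.L07.FlatVal

set_option autoImplicit false
set_option linter.style.haveILetI false
set_option maxSynthPendingDepth 3

attribute [local instance] Algebra.TensorProduct.rightAlgebra

/-- Flatness at all maximal ideals gives flatness. -/
theorem flat_of_forall_maximal {A B M : Type u} [CommRing A] [CommRing B] [Algebra A B] [AddCommGroup M] [Module A M]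
    [Module B M] [IsScalarTower A B M]
    (h : ∀ q : Ideal B, ∀ _ : q.IsMaximal, Module.Flat A (LocalizedModule q.primeCompl M)) : Module.Flat A M := by
  rw [Module.Flat.iff_lTensor_injective']
  intro J
  rw [injective_iff_map_eq_zero]
  intro z hz
  let a : Ideal B := LinearMap.ker (LinearMap.toSpanSingleton B _ z)
  by_cases ha : a = ⊤
  · have : (1 : B) ∈ a := ha ▸ Submodule.mem_top
    simpa [a] using this
  · obtain ⟨q, hq, haq⟩ := Ideal.exists_le_maximal a ha
    obtain ⟨t, ht, htz⟩ := (Groth.L20.flat_localizedModule_iff_forall q.primeCompl).mp (h q hq) J z hz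
    exact absurd (haq (by simpa [a] using htz)) ht

/-- A flat base change is flat at every prime. -/
theorem flatBC_of_flat {A B R M : Type u} [CommRing A] [CommRing B] [Algebra A B] [CommRing R] [Algebra A R]
    [AddCommGroup M] [Module A M] [Module B M] [IsScalarTower A B M] [Module.Flat R (R ⊗[A] M)]
    (Q : Ideal (B ⊗[A] R)) [Q.IsPrime] : FlatBC A B R M Q := by
  let S := B ⊗[A] R
  let N := S ⊗[B] M
  haveI : Algebra.IsPushout A R B S := .symm inferInstance
  haveI : IsScalarTower A R N := IsScalarTower.of_algebraMap_smul fun s x => by
    induction x using TensorProduct.induction_on with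
    | zero => simp
    | add x y hx hy => simp only [smul_add, hx, hy]
    | tmul y m => rw [TensorProduct.smul_tmul', TensorProduct.smul_tmul', algebraMap_smul]
  haveI : IsScalarTower R S N := IsScalarTower.of_algebraMap_smul fun v x => by
    induction x using TensorProduct.induction_on with
    | zero => simp
    | add x y hx hy => simp only [smul_add, hx, hy]
    | tmul y m => rw [TensorProduct.smul_tmul', TensorProduct.smul_tmul', algebraMap_smul]
  haveI : IsScalarTower A B N := IsScalarTower.of_algebraMap_smul fun s x => by
    induction x using TensorProduct.induction_on with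
    | zero => simp
    | add x y hx hy => simp only [smul_add, hx, hy]
    | tmul y m => rw [TensorProduct.smul_tmul', TensorProduct.smul_tmul', algebraMap_smul]
  have hb : IsBaseChange R ((TensorProduct.mk B S M 1).restrictScalars A) :=
    Groth.L20.isBaseChange_restrictScalars (TensorProduct.isBaseChange B M S)
  haveI : Module.Flat R N := Module.Flat.of_linearEquiv hb.equiv.symm
  rw [FlatBC, Groth.L20.flat_localizedModule_iff_forall]
  intro J z hz
  refine ⟨1, fun h1 => Ideal.IsPrime.ne_top ‹Q.IsPrime› ((Ideal.eq_top_iff_one _).mpr h1), ?_⟩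
  rw [one_smul]
  exact Module.Flat.lTensor_preserves_injective_linearMap (M := N) J.subtype Subtype.val_injective
    (hz.trans (map_zero _).symm)

set_option maxHeartbeats 1000000 in
/-- EGA IV 11.8: the valuative criterion, affine form. -/
theorem flat_of_dvr_affine {A B M : Type u} [CommRing A] [IsReduced A] [IsNoetherianRing A] [CommRing B] [Algebra A B]
    [Algebra.FiniteType A B] [AddCommGroup M] [Module A M] [Module B M] [IsScalarTower A B M] [Module.Finite B M]
    (h : ∀ (R : Type u) [CommRing R] [IsDomain R] [IsDiscreteValuationRing R] [Algebra A R],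
      Module.Flat R (R ⊗[A] M)) : Module.Flat A M := by
  refine flat_of_forall_maximal (B := B) fun q _ => ?_
  let p := q.comap (algebraMap A B)
  haveI : p.IsPrime := Ideal.IsPrime.comap _
  let Ap := Localization.AtPrime p
  let Bp := B ⊗[A] Ap
  haveI : IsNoetherianRing Ap := IsLocalization.isNoetherianRing p.primeCompl Ap inferInstance
  haveI : IsReduced Ap := inferInstance
  haveI : Algebra.IsPushout A Ap B Bp := .symm inferInstance
  haveI : Algebra.FiniteType Ap Bp := Algebra.FiniteType.equiv inferInstance
    (Algebra.TensorProduct.commRight A Ap B : Ap ⊗[A] B ≃ₐ[Ap] B ⊗[A] Ap)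
  haveI : Module.Flat A Ap := IsLocalization.flat Ap p.primeCompl
  haveI : Module.Flat B Bp := Module.Flat.isBaseChange A B Ap Bp (Algebra.IsPushout.out (R := A) (S := B))
  obtain ⟨qp, _, hqp1, hqp2⟩ := Groth.L20.exists_prime_isPushout (R := A) (S := B) (R' := Ap) (S' := Bp) q
    (IsLocalRing.maximalIdeal Ap) (IsLocalization.AtPrime.under_maximalIdeal Ap p).symm
  let Mp := Bp ⊗[B] M
  haveI : IsScalarTower A Ap Mp := IsScalarTower.of_algebraMap_smul fun s x => by
    induction x using TensorProduct.induction_on with
    | zero => simp
    | add x y hx hy => simp only [smul_add, hx, hy]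
    | tmul y m => rw [TensorProduct.smul_tmul', TensorProduct.smul_tmul', algebraMap_smul]
  refine flat_at_descent (TensorProduct.mk B Bp M 1) (TensorProduct.isBaseChange B M Bp) q qp hqp1 ?_
  haveI : Module.Flat Ap (LocalizedModule qp.primeCompl Mp) := by
    refine flat_of_dvr qp hqp2 fun R _ _ _ _ _ Q _ _ _ => ?_
    letI : Algebra A R := ((algebraMap Ap R).comp (algebraMap A Ap)).toAlgebra
    haveI : IsScalarTower A Ap R := IsScalarTower.of_algebraMap_eq fun _ => rfl
    haveI : (Q.comap (pMap A Ap B Bp R).toRingHom).IsPrime := Ideal.IsPrime.comap _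
    haveI := h R
    exact (flatBC_pushout_iff (A := A) (TensorProduct.mk B Bp M 1) (TensorProduct.isBaseChange B M Bp) Q).mpr (flatBC_of_flat _)
  haveI : IsScalarTower A Ap (LocalizedModule qp.primeCompl Mp) := IsScalarTower.of_algebraMap_smul fun s x => by
    rw [← algebraMap_smul Bp (algebraMap A Ap s) x, ← IsScalarTower.algebraMap_apply, algebraMap_smul]
  exact Module.Flat.trans A Ap (LocalizedModule qp.primeCompl Mp)

end Groth.L07.FlatVal
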