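import Groth.Agent.L07.FlatVal.Basic
import Mathlib.RingTheory.Flat.Localization
import Mathlib.RingTheory.Flat.TorsionFree

/-!
Flatness of a base change at a prime, and its behaviour in towers and pushouts.
-/

universe u

open TensorProduct

namespace Groth.L07.FlatVal

set_option autoImplicit false
set_option linter.style.haveILetI false
set_option maxSynthPendingDepth 3

attribute [local instance] Algebra.TensorProduct.rightAlgebra

/-- The base change of `M` to `V` is flat over `V` at the prime `Q`. -/
def FlatBC (A B V M : Type u) [CommRing A] [CommRing B] [Algebra A B] [CommRing V] [Algebra A V]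
    [AddCommGroup M] [Module B M] (Q : Ideal (B ⊗[A] V)) [Q.IsPrime] : Prop :=
  Module.Flat V (LocalizedModule Q.primeCompl ((B ⊗[A] V) ⊗[B] M))

section

variable {A A' B B' V V' M M' : Type u} [CommRing A] [CommRing A'] [CommRing B] [CommRing B'] [CommRing V] [CommRing V']
  [Algebra A B] [Algebra A V] [AddCommGroup M] [Module B M]

/-- A flat base change to a domain has no torsion. -/
theorem FlatBC.torsionFreeAt [IsDomain V] {π : V} (hπ : π ≠ 0) {Q : Ideal (B ⊗[A] V)} [Q.IsPrime]
    (h : FlatBC A B V M Q) : TorsionFreeAt A B V M π Q := by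
  intro w hw
  let N := LocalizedModule Q.primeCompl ((B ⊗[A] V) ⊗[B] M)
  haveI : Module.Flat V N := h
  have hinj : Function.Injective fun x : N => π • x :=
    Module.Flat.isSMulRegular_of_isRegular (M := N) (IsRegular.of_ne_zero hπ)
  have h1 : LocalizedModule.mkLinearMap Q.primeCompl ((B ⊗[A] V) ⊗[B] M) w = 0 := by
    refine hinj ?_
    show π • (LocalizedModule.mkLinearMap Q.primeCompl _ w) = π • (0 : N)
    rw [smul_zero, ← algebraMap_smul (B ⊗[A] V) π, ← map_smul]
    show LocalizedModule.mkLinearMap Q.primeCompl _ (((1 : B) ⊗ₜ[A] π) • w) = 0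
    rw [hw, map_zero]
  obtain ⟨t, ht⟩ := (IsLocalizedModule.eq_zero_iff Q.primeCompl (LocalizedModule.mkLinearMap Q.primeCompl _)).mp h1
  exact ⟨t, t.2, ht⟩

variable [Algebra A V'] [Algebra V V'] [IsScalarTower A V V']

/-- The map between base changes. -/
noncomputable def rMap (A B V V' : Type u) [CommRing A] [CommRing B] [CommRing V] [CommRing V'] [Algebra A B]
    [Algebra A V] [Algebra A V'] [Algebra V V'] [IsScalarTower A V V'] : B ⊗[A] V →ₐ[A] B ⊗[A] V' :=
  Algebra.TensorProduct.map (AlgHom.id A B) (IsScalarTower.toAlgHom A V V')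

theorem rMap_tmul (b : B) (v : V) : rMap A B V V' (b ⊗ₜ v) = b ⊗ₜ algebraMap V V' v := by
  simp [rMap]

/-- Flatness of the base change is stable under further base change. -/
theorem FlatBC.trans {Q : Ideal (B ⊗[A] V)} [Q.IsPrime] (h : FlatBC A B V M Q) (Q' : Ideal (B ⊗[A] V')) [Q'.IsPrime]
    (hQ : Q'.comap (rMap A B V V').toRingHom = Q) : FlatBC A B V' M Q' := by
  let S := B ⊗[A] V
  let S' := B ⊗[A] V'
  letI : Algebra S S' := (rMap A B V V').toRingHom.toAlgebra
  letI : Algebra V S' := ((algebraMap V' S').comp (algebraMap V V')).toAlgebra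
  haveI : IsScalarTower V V' S' := IsScalarTower.of_algebraMap_eq fun _ => rfl
  haveI : IsScalarTower A V S' := IsScalarTower.of_algebraMap_eq fun a => by
    rw [IsScalarTower.algebraMap_apply A V' S', IsScalarTower.algebraMap_apply A V V']
    rfl
  haveI : IsScalarTower V S S' := IsScalarTower.of_algebraMap_eq fun v => by
    rw [IsScalarTower.algebraMap_apply V V' S']
    exact (rMap_tmul 1 v).symm
  haveI : IsScalarTower B S S' := IsScalarTower.of_algebraMap_eq fun b => by
    show algebraMap B S' b = rMap A B V V' (b ⊗ₜ[A] (1 : V))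
    rw [rMap_tmul, map_one]
    rfl
  haveI : Algebra.IsPushout A V B S := .symm inferInstance
  haveI : Algebra.IsPushout A V' B S' := .symm inferInstance
  haveI : Algebra.IsPushout V S V' S' :=
    .symm ((Algebra.IsPushout.comp_iff (R := A) (S := V) (R' := B) (S' := S) (T := V') (T' := S')).mp inferInstance)
  let N' := S' ⊗[B] M
  haveI : IsScalarTower V S N' := IsScalarTower.of_algebraMap_smul fun v x => by
    induction x using TensorProduct.induction_on with
    | zero => simp
    | add x y hx hy => simp only [smul_add, hx, hy]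
    | tmul y m => rw [TensorProduct.smul_tmul', TensorProduct.smul_tmul', algebraMap_smul]
  have h1 : IsBaseChange S (TensorProduct.mk B S M 1) := TensorProduct.isBaseChange B M S
  have h2 : IsBaseChange S' (TensorProduct.mk B S' M 1) := TensorProduct.isBaseChange B M S'
  haveI : IsScalarTower S S' N' := IsScalarTower.of_algebraMap_smul fun s x => by
    induction x using TensorProduct.induction_on with
    | zero => simp
    | add x y hx hy => simp only [smul_add, hx, hy]
    | tmul y m => rw [TensorProduct.smul_tmul', TensorProduct.smul_tmul', algebraMap_smul]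
  let g : S ⊗[B] M →ₗ[S] N' := h1.lift (TensorProduct.mk B S' M 1)
  have hg : IsBaseChange S' g := by
    refine IsBaseChange.of_comp h1 ?_
    convert h2 using 1
    exact LinearMap.ext fun x => h1.lift_eq _ x
  haveI : Module.Flat V (LocalizedModule Q.primeCompl (S ⊗[B] M)) := h
  exact Groth.L20.flat_localizedModule_of_isBaseChange (R := V) (R' := V') g
    (Groth.L20.isBaseChange_restrictScalars hg) Q.primeCompl Q'.primeCompl fun t ht hmem => ht (hQ ▸ hmem)

end

section Pushout

variable {A A' B B' V M M' : Type u} [CommRing A] [CommRing A'] [CommRing B] [CommRing B'] [CommRing V]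
  [Algebra A B] [Algebra A V] [AddCommGroup M] [Module B M]
  [Algebra A A'] [Algebra A' B'] [Algebra B B'] [Algebra A B'] [IsScalarTower A A' B'] [IsScalarTower A B B']
  [Algebra A' V] [IsScalarTower A A' V]
  [AddCommGroup M'] [Module B' M'] [Module B M'] [IsScalarTower B B' M']

/-- The comparison between base changes of a base change. -/
noncomputable def pMap (A A' B B' V : Type u) [CommRing A] [CommRing A'] [CommRing B] [CommRing B'] [CommRing V]
    [Algebra A B] [Algebra A V] [Algebra A A'] [Algebra A' B'] [Algebra B B'] [Algebra A B'] [IsScalarTower A A' B']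
    [IsScalarTower A B B'] [Algebra A' V] [IsScalarTower A A' V] : B ⊗[A] V →ₐ[A] B' ⊗[A'] V :=
  Algebra.TensorProduct.lift
    (((Algebra.TensorProduct.includeLeft : B' →ₐ[A'] B' ⊗[A'] V).restrictScalars A).comp (IsScalarTower.toAlgHom A B B'))
    ((Algebra.TensorProduct.includeRight : V →ₐ[A'] B' ⊗[A'] V).restrictScalars A) fun _ _ => Commute.all _ _

theorem pMap_tmul (b : B) (v : V) : pMap A A' B B' V (b ⊗ₜ v) = algebraMap B B' b ⊗ₜ v := by
  simp [pMap]

/-- The comparison between base changes of a base change is bijective. -/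
theorem pMap_bijective [Algebra.IsPushout A A' B B'] : Function.Bijective (pMap A A' B B' V) := by
  let S := B ⊗[A] V
  let S' := B' ⊗[A'] V
  letI : Algebra S S' := (pMap A A' B B' V).toRingHom.toAlgebra
  haveI : IsScalarTower V S S' := IsScalarTower.of_algebraMap_eq fun v => by
    show _ = pMap A A' B B' V ((1 : B) ⊗ₜ v)
    rw [pMap_tmul, map_one]
    rfl
  haveI : IsScalarTower B S S' := IsScalarTower.of_algebraMap_eq fun b => by
    show _ = pMap A A' B B' V (b ⊗ₜ (1 : V))
    rw [pMap_tmul]
    rfl
  haveI : IsScalarTower B B' S' := IsScalarTower.of_algebraMap_eq fun b => rfl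
  haveI : IsScalarTower A V S' := IsScalarTower.of_algebraMap_eq fun a => by
    show (algebraMap A B' a) ⊗ₜ[A'] (1 : V) = (1 : B') ⊗ₜ[A'] algebraMap A V a
    rw [IsScalarTower.algebraMap_apply A A' B', IsScalarTower.algebraMap_apply A A' V]
    generalize algebraMap A A' a = c
    rw [Algebra.algebraMap_eq_smul_one, Algebra.algebraMap_eq_smul_one, TensorProduct.smul_tmul]
  haveI : Algebra.IsPushout A V B S := .symm inferInstance
  haveI : Algebra.IsPushout A' V B' S' := .symm inferInstance
  haveI : Algebra.IsPushout A V B S' :=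
    (Algebra.IsPushout.comp_iff (R := A) (S := A') (R' := B) (S' := B') (T := V) (T' := S')).mpr inferInstance
  haveI hpo : Algebra.IsPushout V S V S' :=
    .symm ((Algebra.IsPushout.comp_iff (R := A) (S := V) (R' := B) (S' := S) (T := V) (T' := S')).mp inferInstance)
  have hb : IsBaseChange V (IsScalarTower.toAlgHom V S S').toLinearMap := (Algebra.IsPushout.symm hpo).out
  have : (pMap A A' B B' V : S → S') = hb.equiv ∘ (TensorProduct.lid V S).symm := funext fun s => by
    rw [Function.comp_apply, TensorProduct.lid_symm_apply, hb.equiv_tmul, one_smul]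
    rfl
  rw [this]
  exact hb.equiv.bijective.comp (TensorProduct.lid V S).symm.bijective

/-- Flatness of the base change does not depend on the stage. -/
theorem flatBC_pushout_iff [Algebra.IsPushout A A' B B'] (f : M →ₗ[B] M') (hf : IsBaseChange B' f)
    (Q' : Ideal (B' ⊗[A'] V)) [Q'.IsPrime] :
    FlatBC A' B' V M' Q' ↔ FlatBC A B V M (Q'.comap (pMap A A' B B' V).toRingHom) := by
  let S := B ⊗[A] V
  let S' := B' ⊗[A'] V
  letI : Algebra S S' := (pMap A A' B B' V).toRingHom.toAlgebra
  haveI : IsScalarTower V S S' := IsScalarTower.of_algebraMap_eq fun v => by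
    show _ = pMap A A' B B' V ((1 : B) ⊗ₜ v)
    rw [pMap_tmul, map_one]
    rfl
  haveI : IsScalarTower B S S' := IsScalarTower.of_algebraMap_eq fun b => by
    show _ = pMap A A' B B' V (b ⊗ₜ (1 : V))
    rw [pMap_tmul]
    rfl
  haveI : IsScalarTower B B' S' := IsScalarTower.of_algebraMap_eq fun b => rfl
  haveI : IsScalarTower A V S' := IsScalarTower.of_algebraMap_eq fun a => by
    show (algebraMap A B' a) ⊗ₜ[A'] (1 : V) = (1 : B') ⊗ₜ[A'] algebraMap A V a
    rw [IsScalarTower.algebraMap_apply A A' B', IsScalarTower.algebraMap_apply A A' V]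
    generalize algebraMap A A' a = c
    rw [Algebra.algebraMap_eq_smul_one, Algebra.algebraMap_eq_smul_one, TensorProduct.smul_tmul]
  haveI : Algebra.IsPushout A V B S := .symm inferInstance
  haveI : Algebra.IsPushout A' V B' S' := .symm inferInstance
  haveI : Algebra.IsPushout A V B S' :=
    (Algebra.IsPushout.comp_iff (R := A) (S := A') (R' := B) (S' := B') (T := V) (T' := S')).mpr inferInstance
  haveI hpo : Algebra.IsPushout V S V S' :=
    .symm ((Algebra.IsPushout.comp_iff (R := A) (S := V) (R' := B) (S' := S) (T := V) (T' := S')).mp inferInstance)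
  have hθ : Function.Bijective (algebraMap S S') := pMap_bijective
  have h1 : IsBaseChange S (TensorProduct.mk B S M 1) := TensorProduct.isBaseChange B M S
  let N' := S' ⊗[B'] M'
  haveI : IsScalarTower S S' N' := IsScalarTower.of_algebraMap_smul fun s x => by
    induction x using TensorProduct.induction_on with
    | zero => simp
    | add x y hx hy => simp only [smul_add, hx, hy]
    | tmul y m => rw [TensorProduct.smul_tmul', TensorProduct.smul_tmul', algebraMap_smul]
  haveI : IsScalarTower B B' N' := IsScalarTower.of_algebraMap_smul fun b x => by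
    induction x using TensorProduct.induction_on with
    | zero => simp
    | add x y hx hy => simp only [smul_add, hx, hy]
    | tmul y m => rw [TensorProduct.smul_tmul', TensorProduct.smul_tmul', algebraMap_smul]
  haveI : IsScalarTower B S' N' := IsScalarTower.of_algebraMap_smul fun b x => by
    rw [IsScalarTower.algebraMap_apply B B' S', algebraMap_smul, algebraMap_smul]
  haveI : IsScalarTower B S N' := IsScalarTower.of_algebraMap_smul fun b x => by
    show algebraMap S S' (algebraMap B S b) • x = b • x
    rw [← IsScalarTower.algebraMap_apply, algebraMap_smul]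
  haveI : IsScalarTower V S N' := IsScalarTower.of_algebraMap_smul fun v x => by
    show algebraMap S S' (algebraMap V S v) • x = v • x
    rw [← IsScalarTower.algebraMap_apply, algebraMap_smul]
  have h2 : IsBaseChange S' ((TensorProduct.mk B' S' M' 1).restrictScalars B ∘ₗ f) :=
    hf.comp (TensorProduct.isBaseChange B' M' S')
  let g : S ⊗[B] M →ₗ[S] N' := h1.lift ((TensorProduct.mk B' S' M' 1).restrictScalars B ∘ₗ f)
  have hg : IsBaseChange S' g := by
    refine IsBaseChange.of_comp h1 ?_
    convert h2 using 1
    exact LinearMap.ext fun x => h1.lift_eq _ x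
  have hgbij : Function.Bijective g := by
    have hb : IsBaseChange V (g.restrictScalars V) := Groth.L20.isBaseChange_restrictScalars hg
    have : (g : S ⊗[B] M → N') = hb.equiv ∘ (TensorProduct.lid V (S ⊗[B] M)).symm := funext fun s => by
      simp [hb.equiv_tmul]
    rw [this]
    exact hb.equiv.bijective.comp (TensorProduct.lid V (S ⊗[B] M)).symm.bijective
  let θ := RingEquiv.ofBijective (algebraMap S S') hθ
  let e := LinearEquiv.ofBijective (g.restrictScalars V) hgbij
  refine Groth.L20.flat_localizedModule_iff_of_semilinear (algebraMap S S') e.symm (fun s m => ?_)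
    (Q'.comap (algebraMap S S')).primeCompl Q'.primeCompl ?_
  · apply e.injective
    rw [LinearEquiv.apply_symm_apply]
    show _ = g (s • e.symm m)
    rw [map_smul, ← algebraMap_smul S' s (g (e.symm m))]
    congr 1
    exact (e.apply_symm_apply m).symm
  · ext x
    refine ⟨fun hx => ?_, ?_⟩
    · obtain ⟨y, rfl⟩ := hθ.2 x
      exact ⟨y, hx, rfl⟩
    · rintro ⟨y, hy, rfl⟩
      exact hy

end Pushout

section Quotient

variable {A B B' V M : Type u} [CommRing A] [CommRing B] [CommRing B'] [CommRing V] [Algebra A B] [Algebra A B']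
  [Algebra B B'] [IsScalarTower A B B'] [Algebra A V] [AddCommGroup M] [Module B M] [Module B' M] [IsScalarTower B B' M]

/-- Flatness of the base change does not depend on the algebra acting. -/
theorem flatBC_surjective_iff (hs : Function.Surjective (algebraMap B B')) (Q' : Ideal (B' ⊗[A] V)) [Q'.IsPrime] :
    FlatBC A B' V M Q' ↔ FlatBC A B V M (Q'.comap (bcMap A B B' V).toRingHom) := by
  obtain ⟨j, hj, hsmul⟩ := exists_semilinearEquiv A B B' V M
  have hjv : ∀ (v : V) z, j (v • z) = v • j z := fun v z => by
    rw [← algebraMap_smul (B ⊗[A] V) v z, hsmul, ← algebraMap_smul (B' ⊗[A] V) v (j z)]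
    show bcMap A B B' V ((1 : B) ⊗ₜ v) • j z = ((1 : B') ⊗ₜ[A] v) • j z
    rw [bcMap_tmul, map_one]
  let e : (B ⊗[A] V) ⊗[B] M ≃ₗ[V] (B' ⊗[A] V) ⊗[B'] M := (AddEquiv.ofBijective j hj).toLinearEquiv hjv
  refine Groth.L20.flat_localizedModule_iff_of_semilinear (bcMap A B B' V).toRingHom e.symm (fun s m => ?_)
    (Q'.comap (bcMap A B B' V).toRingHom).primeCompl Q'.primeCompl ?_
  · apply e.injective
    rw [LinearEquiv.apply_symm_apply]
    show _ = j (s • e.symm m)
    rw [hsmul]
    congr 1
    exact (e.apply_symm_apply m).symm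
  · ext x
    refine ⟨fun hx => ?_, ?_⟩
    · have hsurj : Function.Surjective (bcMap A B B' V) :=
        TensorProduct.map_surjective (g := (IsScalarTower.toAlgHom A B B').toLinearMap) (g' := (AlgHom.id A V).toLinearMap)
          hs Function.surjective_id
      obtain ⟨y, rfl⟩ := hsurj x
      exact ⟨y, hx, rfl⟩
    · rintro ⟨y, hy, rfl⟩
      exact hy

end Quotient

end Groth.L07.FlatVal
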