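import Groth.Agent.L01.NagataFiniteType
import Groth.Agent.L01.N2Basic
import Groth.Prelude.Def_Found
import Mathlib.RingTheory.PrincipalIdealDomain
import Mathlib.RingTheory.FiniteType

/-!
The integers are Nagata; normalisations of finitely generated domains are finite.
-/

universe u

namespace Groth.L07.FlatVal

set_option autoImplicit false
set_option linter.style.haveILetI false

/-- The integers form a Nagata ring. -/
theorem isNagata_int : CAlg.IsNagata (ULift.{u} ℤ) := by
  have e : ULift.{u} ℤ ≃+* ℤ := ULift.ringEquiv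
  haveI : IsNoetherianRing (ULift.{u} ℤ) := isNoetherianRing_of_ringEquiv ℤ e.symm
  refine ⟨inferInstance, fun p _ => ?_⟩
  by_cases hp : p = ⊥
  · subst hp
    let e' : (ULift.{u} ℤ ⧸ (⊥ : Ideal (ULift.{u} ℤ))) ≃+* ℤ := (RingEquiv.quotientBot _).trans e
    haveI : IsIntegrallyClosed (ULift.{u} ℤ ⧸ (⊥ : Ideal (ULift.{u} ℤ))) := IsIntegrallyClosed.of_equiv e'.symm
    haveI : CharZero (ULift.{u} ℤ ⧸ (⊥ : Ideal (ULift.{u} ℤ))) :=
      charZero_of_injective_ringHom (f := e'.symm.toRingHom) e'.symm.injective
    exact Groth.L01.N2.isN2_of_isN1_of_charZero _ (Groth.L01.N2.isN1_of_isIntegrallyClosed _)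
  · haveI : IsDomain (ULift.{u} ℤ) := e.toMulEquiv.isDomain ℤ
    haveI : IsPrincipalIdealRing (ULift.{u} ℤ) := IsPrincipalIdealRing.of_surjective e.symm.toRingHom e.symm.surjective
    haveI : p.IsMaximal := IsPrime.to_maximal_ideal hp
    intro L _ _ _ _ hfd
    letI : Field (ULift.{u} ℤ ⧸ p) := Ideal.Quotient.field p
    haveI := hfd
    haveI : Module.Finite (ULift.{u} ℤ ⧸ p) (FractionRing (ULift.{u} ℤ ⧸ p)) :=
      Module.Finite.of_surjective (Algebra.linearMap _ _)
        (IsFractionRing.surjective_iff_isField.mpr (Field.toIsField _))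
    haveI : Module.Finite (ULift.{u} ℤ ⧸ p) L := Module.Finite.trans (FractionRing (ULift.{u} ℤ ⧸ p)) L
    exact Module.Finite.of_injective (integralClosure (ULift.{u} ℤ ⧸ p) L).val.toLinearMap Subtype.val_injective

/-- A finitely generated domain has finite normalisation. -/
theorem isN1_of_finiteType_int (S : Type u) [CommRing S] [IsDomain S] [Algebra.FiniteType ℤ S] : CAlg.IsN1 S := by
  letI : Algebra (ULift.{u} ℤ) S := ((Int.castRingHom S).comp ULift.ringEquiv.toRingHom).toAlgebra
  haveI : Algebra.FiniteType (ULift.{u} ℤ) S := by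
    have h : (algebraMap ℤ S).FiniteType := RingHom.finiteType_algebraMap.mpr inferInstance
    refine RingHom.finiteType_algebraMap.mp (RingHom.FiniteType.of_comp_finiteType (f := ULift.ringEquiv.symm.toRingHom) ?_)
    convert h using 1
    exact RingHom.ext_int _ _
  exact Groth.L01.N2.isN1_of_isN2 S
    (Groth.L01.Nagata.isN2_of_isNagata (Groth.L01.Nagata.isNagata_of_finiteType (S := S) isNagata_int))

end Groth.L07.FlatVal
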