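import Groth.Agent.L07.FlatVal.Normal
import Groth.Agent.L07.FlatVal.Descent
import Groth.Agent.L07.FlatVal.NagataInt
import Mathlib.RingTheory.IntegralClosure.IntegrallyClosed

/-!
Flatness from flat points over local rings dominating the finite birational extensions (EGA IV 11.8).
-/

universe u

open TensorProduct

namespace Groth.L07.FlatVal

set_option autoImplicit false
set_option linter.style.haveILetI false
set_option maxSynthPendingDepth 3

attribute [local instance] Algebra.TensorProduct.rightAlgebra
attribute [local instance] MvPolynomial.algebraMvPolynomial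

open MvPolynomial Groth.L07.FlatDescent in
/-- A model over a finitely generated subring. -/
theorem exists_fg_model (A : Type u) [CommRing A] {d : ℕ} (M : Type u) [AddCommGroup M]
    [Module (MvPolynomial (Fin d) A) M] [Module.FinitePresentation (MvPolynomial (Fin d) A) M] :
    ∃ (R : Subalgebra ℤ A) (_ : R.FG) (M₀ : Type u) (_ : AddCommGroup M₀) (_ : Module (MvPolynomial (Fin d) R) M₀)
      (_ : Module.Finite (MvPolynomial (Fin d) R) M₀),
      letI : Module (MvPolynomial (Fin d) R) M := Module.compHom M (algebraMap (MvPolynomial (Fin d) R) (MvPolynomial (Fin d) A))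
      haveI : IsScalarTower (MvPolynomial (Fin d) R) (MvPolynomial (Fin d) A) M :=
        IsScalarTower.of_algebraMap_smul fun _ _ => rfl
      ∃ f : M₀ →ₗ[MvPolynomial (Fin d) R] M, IsBaseChange (MvPolynomial (Fin d) A) f := by
  classical
  obtain ⟨n, L, e, hL⟩ := Module.FinitePresentation.exists_fin (MvPolynomial (Fin d) A) M
  obtain ⟨G, hG⟩ := hL
  let W : Finset A := G.biUnion fun y => (supp y).image (co y)
  let R := Algebra.adjoin ℤ (W : Set A)
  have hlift : ∀ y ∈ G, ∃ z : F d n R, ψ A z = y := by
    intro y hy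
    have : ∀ i, y i ∈ Set.range (MvPolynomial.map (algebraMap R A)) := fun i => by
      rw [MvPolynomial.mem_range_map_iff_coeffs_subset]
      intro c hc
      obtain ⟨m, hm, rfl⟩ := MvPolynomial.mem_coeffs_iff.mp hc
      exact ⟨⟨_, Algebra.subset_adjoin (Finset.mem_biUnion.mpr ⟨y, hy, Finset.mem_image.mpr
        ⟨(i, m), Finset.mem_biUnion.mpr ⟨i, Finset.mem_univ _, Finset.mem_map.mpr ⟨m, hm, rfl⟩⟩,
          rfl⟩⟩)⟩, rfl⟩
    choose z hz using this
    exact ⟨z, funext hz⟩
  choose! z hz using hlift
  let P₀ := MvPolynomial (Fin d) R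
  let P := MvPolynomial (Fin d) A
  let K : Submodule P₀ (F d n R) := Submodule.span _ (z '' G)
  refine ⟨R, ⟨W, rfl⟩, F d n R ⧸ K, inferInstance, inferInstance, inferInstance, ?_⟩
  letI : Module P₀ M := Module.compHom M (algebraMap P₀ P)
  haveI : IsScalarTower P₀ P M := IsScalarTower.of_algebraMap_smul fun _ _ => rfl
  let p : F d n A →ₗ[P] M := e.symm.toLinearMap ∘ₗ L.mkQ
  let j : F d n R →ₗ[P₀] F d n A := (Algebra.linearMap P₀ P).compLeft (Fin n)
  have hj : ∀ y, j y = ψ A y := fun y => rfl
  have hker : LinearMap.ker p = L := by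
    rw [LinearEquiv.ker_comp, Submodule.ker_mkQ]
  let h : (F d n R ⧸ K) →ₗ[P₀] M := K.liftQ ((p.restrictScalars P₀) ∘ₗ j) (by
    rw [Submodule.span_le]
    rintro _ ⟨y, hy, rfl⟩
    show p (j (z y)) = 0
    rw [hj, hz y hy, ← LinearMap.mem_ker, hker, ← hG]
    exact Submodule.subset_span hy)
  refine ⟨h, Groth.L20.FibreCrit.isBaseChange_quotient ((IsBaseChange.linearMap P₀ P).finitePow (Fin n)) K.mkQ
    (Submodule.mkQ_surjective K) p (e.symm.surjective.comp (Submodule.mkQ_surjective L)) h (fun _ => rfl) ?_⟩
  rw [hker, ← hG, Submodule.span_le, Submodule.ker_mkQ]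
  intro g hg
  exact Submodule.subset_span ⟨z g, Submodule.subset_span ⟨g, hg, rfl⟩, (hj _).trans (hz g hg)⟩

set_option maxHeartbeats 4000000 in
set_option synthInstance.maxHeartbeats 200000 in
/-- EGA IV 11.8: flatness over a local domain from one flat point over each point of a finite birational extension,
for a module over a polynomial algebra. -/
theorem flat_of_dominated_poly {A : Type u} [CommRing A] [IsLocalRing A] [IsDomain A] {d : ℕ} {M : Type u}
    [AddCommGroup M] [Module A M] [Module (MvPolynomial (Fin d) A) M] [IsScalarTower A (MvPolynomial (Fin d) A) M]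
    [Module.FinitePresentation (MvPolynomial (Fin d) A) M]
    (q : Ideal (MvPolynomial (Fin d) A)) [q.IsPrime]
    (h : ∀ A₁ : Subalgebra A (FractionRing A), Module.Finite A A₁ →
      ∀ q₁ : Ideal (MvPolynomial (Fin d) A ⊗[A] A₁), q₁.IsPrime →
      q₁.comap (Algebra.TensorProduct.includeLeftRingHom :
        MvPolynomial (Fin d) A →+* MvPolynomial (Fin d) A ⊗[A] A₁) = q →
      ∃ (V : Type u) (_ : CommRing V) (_ : IsLocalRing V) (_ : Algebra A V) (_ : Algebra A₁ V)
        (_ : IsScalarTower A A₁ V) (Q : Ideal (MvPolynomial (Fin d) A ⊗[A] V)) (_ : Q.IsPrime),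
        Function.Injective (algebraMap A₁ V) ∧
        Q.comap (algebraMap V (MvPolynomial (Fin d) A ⊗[A] V)) = IsLocalRing.maximalIdeal V ∧
        Q.comap (rMap A (MvPolynomial (Fin d) A) A₁ V).toRingHom = q₁ ∧
        FlatBC A (MvPolynomial (Fin d) A) V M Q) :
    Module.Flat A (LocalizedModule q.primeCompl M) := by
  classical
  let P := MvPolynomial (Fin d) A
  obtain ⟨R, hRfg, M₀, _, _, _, hmodel⟩ := exists_fg_model A M (d := d)
  let P₀ := MvPolynomial (Fin d) R
  letI : Module P₀ M := Module.compHom M (algebraMap P₀ P)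
  haveI : IsScalarTower P₀ P M := IsScalarTower.of_algebraMap_smul fun _ _ => rfl
  obtain ⟨f, hf⟩ := hmodel
  letI : Module R M₀ := Module.compHom M₀ (algebraMap R P₀)
  haveI : IsScalarTower R P₀ M₀ := IsScalarTower.of_algebraMap_smul fun _ _ => rfl
  haveI : Algebra.FiniteType ℤ R := R.fg_iff_finiteType.mp hRfg
  haveI : IsNoetherianRing R := Algebra.FiniteType.isNoetherianRing ℤ R
  -- the normalisation
  let F := FractionRing R
  let K := FractionRing A
  let R'' := integralClosure R F
  haveI : Module.Finite R R'' := isN1_of_finiteType_int R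
  have hRK : Function.Injective (algebraMap R K) := by
    rw [IsScalarTower.algebraMap_eq R A K]
    exact (IsFractionRing.injective A K).comp Subtype.val_injective
  let ι : F →ₐ[R] K := IsFractionRing.liftAlgHom (g := IsScalarTower.toAlgHom R R K |>.comp (AlgHom.id R R)) hRK
  obtain ⟨G, hG⟩ := (Module.Finite.fg_top : (⊤ : Submodule R R'').FG)
  let A₁ := Algebra.adjoin A ((fun z : R'' => ι z.1) '' (G : Set R''))
  haveI : Module.Finite A A₁ := Module.Finite.iff_fg.mpr (fg_adjoin_of_finite (G.finite_toSet.image _)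
    fun x ⟨z, _, hz⟩ => hz ▸ ((show IsIntegral R z.1 from z.2).map ι).tower_top)
  haveI : Algebra.IsIntegral A A₁ := Algebra.IsIntegral.of_finite A A₁
  have hinj₁ : Function.Injective (algebraMap A A₁) := fun a b hab =>
    IsFractionRing.injective A K (congrArg Subtype.val hab)
  obtain ⟨R', _, _, _, _, _, φ, hφinj, hφR⟩ : ∃ (R' : Type u) (_ : CommRing R') (_ : IsDomain R')
      (_ : IsNoetherianRing R') (_ : IsIntegrallyClosed R') (_ : Algebra R R') (φ : R' →+* A₁),
      Function.Injective φ ∧ ∀ r, φ (algebraMap R R' r) = algebraMap R A₁ r := by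
    have hmem : ∀ z : R'', ι z.1 ∈ A₁ := by
      intro z
      have hz : z ∈ Submodule.span R (G : Set R'') := hG ▸ Submodule.mem_top
      induction hz using Submodule.span_induction with
      | zero => rw [ZeroMemClass.coe_zero, map_zero]; exact zero_mem _
      | add a b _ _ ha hb => rw [AddMemClass.coe_add, map_add]; exact add_mem ha hb
      | smul c a _ ha =>
        rw [SetLike.val_smul, map_smul, Algebra.smul_def, IsScalarTower.algebraMap_apply R A K]
        exact mul_mem (A₁.algebraMap_mem _) ha
      | mem g hg => exact Algebra.subset_adjoin ⟨g, hg, rfl⟩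
    haveI : IsFractionRing R'' F := IsIntegralClosure.isFractionRing_of_finite_extension R F F R''
    exact ⟨R'', inferInstance, inferInstance, IsNoetherianRing.of_finite R R'',
      (isIntegrallyClosed_iff F).mpr fun {z} hz => ⟨⟨z, isIntegral_trans (R := R) z hz⟩, rfl⟩, inferInstance,
      (ι.toRingHom.comp R''.val.toRingHom).codRestrict A₁ hmem,
      fun a b hab => Subtype.ext (ι.toRingHom.injective (congrArg Subtype.val hab)),
      fun r => Subtype.ext (ι.commutes r)⟩
  letI : Algebra R' A₁ := φ.toAlgebra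
  haveI : IsScalarTower R R' A₁ := IsScalarTower.of_algebraMap_eq fun r => (hφR r).symm
  haveI : Algebra.FinitePresentation A P := inferInstance
  refine flat_at_of_integral_injective hinj₁ q fun q₁ _ hq₁ => ?_
  show FlatBC A P A₁ M q₁
  obtain ⟨V, _, _, _, _, _, Q, _, hA₁V, hQm, hQq₁, hflat⟩ := h A₁ inferInstance q₁ inferInstance hq₁
  -- the normal local ring below `V`
  letI : Algebra R' V := ((algebraMap A₁ V).comp φ).toAlgebra
  haveI : IsScalarTower R' A₁ V := IsScalarTower.of_algebraMap_eq fun _ => rfl
  haveI : IsScalarTower R R' V := IsScalarTower.of_algebraMap_eq fun r => by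
    rw [IsScalarTower.algebraMap_apply R A V, IsScalarTower.algebraMap_apply A A₁ V,
      ← IsScalarTower.algebraMap_apply R A A₁, IsScalarTower.algebraMap_apply R R' A₁]
    rfl
  let n' := (IsLocalRing.maximalIdeal V).comap (algebraMap R' V)
  haveI : n'.IsPrime := Ideal.IsPrime.comap _
  let A' := Localization.AtPrime n'
  letI : Algebra A' V := (IsLocalization.lift (M := n'.primeCompl) (g := algebraMap R' V) fun s => by
    by_contra hs
    exact s.2 hs).toAlgebra
  haveI : IsScalarTower R' A' V := IsScalarTower.of_algebraMap_eq fun r =>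
    (IsLocalization.lift_eq (M := n'.primeCompl) (S := A') (g := algebraMap R' V) _ r).symm
  haveI : IsScalarTower R A' V := IsScalarTower.of_algebraMap_eq fun r => by
    rw [IsScalarTower.algebraMap_apply R R' V, IsScalarTower.algebraMap_apply R R' A',
      ← IsScalarTower.algebraMap_apply R' A' V]
  have hle : (n'.primeCompl : Submonoid R') ≤ nonZeroDivisors R' :=
    le_nonZeroDivisors_of_noZeroDivisors (not_not_intro n'.zero_mem)
  haveI : IsDomain A' := IsLocalization.isDomain_localization hle
  haveI : IsIntegrallyClosed A' := isIntegrallyClosed_of_isLocalization A' n'.primeCompl hle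
  haveI : IsNoetherianRing A' := IsLocalization.isNoetherianRing n'.primeCompl A' inferInstance
  have hR'V : Function.Injective (algebraMap R' V) := hA₁V.comp hφinj
  have hA'V : Function.Injective (algebraMap A' V) := by
    refine (IsLocalization.lift_injective_iff _).mpr fun x y => ?_
    rw [(IsLocalization.injective A' hle).eq_iff, hR'V.eq_iff]
  haveI : IsLocalHom (algebraMap A' V) := ⟨fun a hu => by
    obtain ⟨x, s, rfl⟩ := IsLocalization.exists_mk'_eq n'.primeCompl a
    rw [IsLocalization.AtPrime.isUnit_mk'_iff A' n']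
    intro hx
    have h1 : algebraMap A' V (IsLocalization.mk' A' x s) * algebraMap R' V s = algebraMap R' V x := by
      rw [IsScalarTower.algebraMap_apply R' A' V s, ← map_mul, IsLocalization.mk'_spec,
        ← IsScalarTower.algebraMap_apply]
    have h2 : IsUnit (algebraMap R' V (s : R')) := by
      by_contra hs
      exact s.2 hs
    have h3 : IsUnit (algebraMap R' V x) := h1 ▸ hu.mul h2
    exact hx h3⟩
  -- the flat point over `A'`
  haveI : Algebra.IsPushout R A P₀ P := inferInstance
  let Q₀ := Q.comap (pMap R A P₀ P V).toRingHom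
  haveI : Q₀.IsPrime := Ideal.IsPrime.comap _
  have hflat₀ : FlatBC R P₀ V M₀ Q₀ := (flatBC_pushout_iff f hf Q).mp hflat
  let B' := P₀ ⊗[R] A'
  haveI : Algebra.IsPushout R A' P₀ B' := .symm inferInstance
  let M' := B' ⊗[P₀] M₀
  obtain ⟨Q', _, hQ'⟩ : ∃ Q' : Ideal (B' ⊗[A'] V), Q'.IsPrime ∧ Q'.comap (pMap R A' P₀ B' V).toRingHom = Q₀ := by
    let θ := RingEquiv.ofBijective (pMap R A' P₀ B' V) pMap_bijective
    refine ⟨Q₀.comap θ.symm.toRingHom, Ideal.IsPrime.comap _, ?_⟩
    ext x
    show θ.symm (θ x) ∈ Q₀ ↔ x ∈ Q₀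
    rw [RingEquiv.symm_apply_apply]
  have hflat' : FlatBC A' B' V M' Q' := by
    refine (flatBC_pushout_iff (A := R) (TensorProduct.mk P₀ B' M₀ 1) (TensorProduct.isBaseChange P₀ M₀ B') Q').mpr ?_
    convert hflat₀
  have hpV : ∀ v : V, pMap R A P₀ P V ((1 : P₀) ⊗ₜ v) = (1 : P) ⊗ₜ[A] v := fun v => by rw [pMap_tmul, map_one]
  have hQ'm : Q'.comap (algebraMap V (B' ⊗[A'] V)) = IsLocalRing.maximalIdeal V := by
    have : Q'.comap (algebraMap V (B' ⊗[A'] V)) = Q₀.comap (algebraMap V (P₀ ⊗[R] V)) := by
      rw [← hQ', Ideal.comap_comap]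
      congr 1
      exact RingHom.ext fun v => ((pMap_tmul 1 v).trans (by rw [map_one]; rfl)).symm
    rw [this, ← hQm, Ideal.comap_comap]
    congr 1
    exact RingHom.ext hpV
  let q'' := Q'.comap (Algebra.TensorProduct.includeLeftRingHom : B' →+* B' ⊗[A'] V)
  haveI : q''.IsPrime := Ideal.IsPrime.comap _
  have hq''m : q''.comap (algebraMap A' B') = IsLocalRing.maximalIdeal A' := by
    have h1 : q''.comap (algebraMap A' B') = (Q'.comap (algebraMap V (B' ⊗[A'] V))).comap (algebraMap A' V) := by
      rw [Ideal.comap_comap, Ideal.comap_comap]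
      congr 1
      exact RingHom.ext fun a => (IsScalarTower.algebraMap_apply A' B' (B' ⊗[A'] V) a).symm.trans
        (IsScalarTower.algebraMap_apply A' V (B' ⊗[A'] V) a)
    rw [h1, hQ'm]
    exact ((IsLocalRing.local_hom_TFAE (algebraMap A' V)).out 0 4).mp ‹IsLocalHom (algebraMap A' V)›
  haveI : Algebra.FiniteType R P₀ := inferInstance
  haveI : Algebra.FiniteType A' B' := Algebra.FiniteType.equiv inferInstance
    (Algebra.TensorProduct.commRight R A' P₀ : A' ⊗[R] P₀ ≃ₐ[A'] P₀ ⊗[R] A')
  haveI : IsScalarTower A' B' M' := inferInstance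
  have hcore : Module.Flat A' (LocalizedModule q''.primeCompl M') :=
    flat_of_flatBC_local (Groth.L06.NormalTensor.normalRing_of_domain) hA'V q'' hq''m Q' rfl hQ'm hflat'
  -- descend to the normalisation
  let B₁ := P₀ ⊗[R] R'
  letI : Algebra B₁ B' := (rMap R P₀ R' A').toRingHom.toAlgebra
  letI : Algebra R' B' := ((algebraMap A' B').comp (algebraMap R' A')).toAlgebra
  haveI : IsScalarTower R' A' B' := IsScalarTower.of_algebraMap_eq fun _ => rfl
  haveI : IsScalarTower R' B₁ B' := IsScalarTower.of_algebraMap_eq fun r => by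
    rw [IsScalarTower.algebraMap_apply R' A' B']
    exact (rMap_tmul 1 r).symm
  haveI : IsScalarTower P₀ B₁ B' := IsScalarTower.of_algebraMap_eq fun p => by
    show algebraMap P₀ B' p = rMap R P₀ R' A' (p ⊗ₜ[R] (1 : R'))
    rw [rMap_tmul, map_one]
    rfl
  haveI : IsScalarTower R R' B' := IsScalarTower.of_algebraMap_eq fun r => by
    rw [IsScalarTower.algebraMap_apply R A' B', IsScalarTower.algebraMap_apply R R' A']
    rfl
  haveI : Algebra.IsPushout R R' P₀ B₁ := .symm inferInstance
  haveI : Algebra.IsPushout R' B₁ A' B' :=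
    .symm ((Algebra.IsPushout.comp_iff (R := R) (S := R') (R' := P₀) (S' := B₁) (T := A') (T' := B')).mp inferInstance)
  haveI : Module.Flat R' A' := IsLocalization.flat A' n'.primeCompl
  haveI : Module.Flat B₁ B' := Module.Flat.isBaseChange R' B₁ A' B' (Algebra.IsPushout.out (R := R') (S := B₁))
  let M₁ := B₁ ⊗[P₀] M₀
  haveI : IsScalarTower B₁ B' M' := IsScalarTower.of_algebraMap_smul fun s x => by
    induction x using TensorProduct.induction_on with
    | zero => simp
    | add x y hx hy => simp only [smul_add, hx, hy]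
    | tmul y m => rw [TensorProduct.smul_tmul', TensorProduct.smul_tmul', algebraMap_smul]
  haveI : IsScalarTower R' B₁ M' := IsScalarTower.of_algebraMap_smul fun s x => by
    induction x using TensorProduct.induction_on with
    | zero => simp
    | add x y hx hy => simp only [smul_add, hx, hy]
    | tmul y m => rw [TensorProduct.smul_tmul', TensorProduct.smul_tmul', algebraMap_smul]
  haveI : IsScalarTower R' A' M' := IsScalarTower.of_algebraMap_smul fun s x => by
    induction x using TensorProduct.induction_on with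
    | zero => simp
    | add x y hx hy => simp only [smul_add, hx, hy]
    | tmul y m => rw [TensorProduct.smul_tmul', TensorProduct.smul_tmul', algebraMap_smul]
  haveI : IsScalarTower R' B' M' := IsScalarTower.of_algebraMap_smul fun s x => by
    rw [IsScalarTower.algebraMap_apply R' B₁ B', algebraMap_smul, algebraMap_smul]
  have hb₁ : IsBaseChange B₁ (TensorProduct.mk P₀ B₁ M₀ 1) := TensorProduct.isBaseChange P₀ M₀ B₁
  let g : M₁ →ₗ[B₁] M' := hb₁.lift (TensorProduct.mk P₀ B' M₀ 1)
  have hg : IsBaseChange B' g := by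
    refine IsBaseChange.of_comp hb₁ ?_
    convert TensorProduct.isBaseChange P₀ M₀ B' using 1
    exact LinearMap.ext fun x => hb₁.lift_eq _ x
  let q' := q''.comap (algebraMap B₁ B')
  haveI : q'.IsPrime := Ideal.IsPrime.comap _
  have hR' : FlatBC R P₀ R' M₀ q' := by
    refine flat_at_descent g hg q' q'' rfl ?_
    haveI := hcore
    haveI : IsScalarTower R' A' (LocalizedModule q''.primeCompl M') := IsScalarTower.of_algebraMap_smul fun s x => by
      rw [← algebraMap_smul B' (algebraMap R' A' s) x, ← IsScalarTower.algebraMap_apply, algebraMap_smul]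
    exact Module.Flat.trans R' A' (LocalizedModule q''.primeCompl M')
  -- back up
  have hR₁ : FlatBC R P₀ A₁ M₀ (q₁.comap (pMap R A P₀ P A₁).toRingHom) := by
    refine FlatBC.trans (V := R') hR' _ ?_
    show (q₁.comap (pMap R A P₀ P A₁).toRingHom).comap (rMap R P₀ R' A₁).toRingHom =
      (Q'.comap (Algebra.TensorProduct.includeLeftRingHom : B' →+* B' ⊗[A'] V)).comap (rMap R P₀ R' A').toRingHom
    have h1 : (Q'.comap (Algebra.TensorProduct.includeLeftRingHom : B' →+* B' ⊗[A'] V)).comap
        (rMap R P₀ R' A').toRingHom = Q₀.comap (rMap R P₀ R' V).toRingHom := by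
      rw [← hQ', Ideal.comap_comap, Ideal.comap_comap]
      congr 1
      refine RingHom.ext fun x => ?_
      induction x using TensorProduct.induction_on with
      | zero => simp
      | add a b ha hb => simp only [map_add, ha, hb]
      | tmul p r =>
        show (rMap R P₀ R' A' (p ⊗ₜ r)) ⊗ₜ[A'] (1 : V) = pMap R A' P₀ B' V (rMap R P₀ R' V (p ⊗ₜ r))
        rw [rMap_tmul, rMap_tmul, pMap_tmul]
        show (p ⊗ₜ[R] algebraMap R' A' r) ⊗ₜ[A'] (1 : V) = (p ⊗ₜ[R] (1 : A')) ⊗ₜ[A'] algebraMap R' V r
        rw [IsScalarTower.algebraMap_apply R' A' V, Algebra.algebraMap_eq_smul_one (A := V), ← TensorProduct.smul_tmul]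
        congr 1
        show _ = algebraMap A' B' _ * _
        show p ⊗ₜ[R] algebraMap R' A' r = ((1 : P₀) ⊗ₜ[R] algebraMap R' A' r) * (p ⊗ₜ[R] (1 : A'))
        rw [Algebra.TensorProduct.tmul_mul_tmul, one_mul, mul_one]
    rw [h1, ← hQq₁, Ideal.comap_comap, Ideal.comap_comap, Ideal.comap_comap]
    congr 1
    refine RingHom.ext fun x => ?_
    induction x using TensorProduct.induction_on with
    | zero => simp
    | add a b ha hb => simp only [map_add, ha, hb]
    | tmul p r =>
      show rMap A P A₁ V (pMap R A P₀ P A₁ (rMap R P₀ R' A₁ (p ⊗ₜ r))) = pMap R A P₀ P V (rMap R P₀ R' V (p ⊗ₜ r))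
      rw [rMap_tmul, pMap_tmul, rMap_tmul, rMap_tmul, pMap_tmul]
      rfl
  exact (flatBC_pushout_iff f hf q₁).mpr hR₁

set_option maxHeartbeats 1000000 in
/-- EGA IV 11.8: flatness over a local domain from one flat point over each point of a finite birational
extension. -/
theorem flat_of_dominated {A B M : Type u} [CommRing A] [IsLocalRing A] [IsDomain A] [CommRing B] [Algebra A B]
    [Algebra.FinitePresentation A B] [AddCommGroup M] [Module A M] [Module B M] [IsScalarTower A B M]
    [Module.FinitePresentation B M] (q : Ideal B) [q.IsPrime]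
    (h : ∀ A₁ : Subalgebra A (FractionRing A), Module.Finite A A₁ →
      ∀ q₁ : Ideal (B ⊗[A] A₁), q₁.IsPrime →
      q₁.comap (Algebra.TensorProduct.includeLeftRingHom : B →+* B ⊗[A] A₁) = q →
      ∃ (V : Type u) (_ : CommRing V) (_ : IsLocalRing V) (_ : Algebra A V) (_ : Algebra A₁ V)
        (_ : IsScalarTower A A₁ V) (Q : Ideal (B ⊗[A] V)) (_ : Q.IsPrime),
        Function.Injective (algebraMap A₁ V) ∧
        Q.comap (algebraMap V (B ⊗[A] V)) = IsLocalRing.maximalIdeal V ∧
        Q.comap (rMap A B A₁ V).toRingHom = q₁ ∧ FlatBC A B V M Q) :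
    Module.Flat A (LocalizedModule q.primeCompl M) := by
  obtain ⟨d, π, hπ, hker⟩ := ‹Algebra.FinitePresentation A B›.out
  let P := MvPolynomial (Fin d) A
  letI : Algebra P B := π.toRingHom.toAlgebra
  haveI : IsScalarTower A P B := IsScalarTower.of_algebraMap_eq fun a => (π.commutes a).symm
  haveI : Module.FinitePresentation P B :=
    Module.finitePresentation_of_surjective (Algebra.linearMap P B) hπ hker
  letI : Module P M := Module.compHom M π.toRingHom
  haveI : IsScalarTower P B M := IsScalarTower.of_algebraMap_smul fun _ _ => rfl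
  haveI : IsScalarTower A P M := IsScalarTower.of_algebraMap_smul fun a x => by
    show π (algebraMap A P a) • x = a • x
    rw [π.commutes, algebraMap_smul]
  haveI : Module.FinitePresentation P M := Module.FinitePresentation.trans P M B
  haveI : Module.Finite P B := inferInstance
  haveI : Algebra.IsIntegral P B := Algebra.IsIntegral.of_finite P B
  let qP := q.comap (algebraMap P B)
  refine flat_at_of_unique qP q rfl (flat_of_dominated_poly qP fun A₁ hA₁ q₁' _ hq₁' => ?_)
  let χ := bcMap A P B A₁
  have hχ : Function.Surjective χ :=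
    TensorProduct.map_surjective (g := (IsScalarTower.toAlgHom A P B).toLinearMap) (g' := (AlgHom.id A A₁).toLinearMap)
      hπ Function.surjective_id
  have hkχ : RingHom.ker χ.toRingHom ≤ q₁' := by
    have hk : RingHom.ker χ.toRingHom =
        (RingHom.ker (algebraMap P B)).map (Algebra.TensorProduct.includeLeftRingHom : P →+* P ⊗[A] A₁) :=
      Algebra.TensorProduct.rTensor_ker (IsScalarTower.toAlgHom A P B) hπ
    rw [hk, Ideal.map_le_iff_le_comap, hq₁']
    exact fun x hx => by
      show algebraMap P B x ∈ q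
      rw [RingHom.mem_ker.mp hx]
      exact zero_mem q
  let q₁ := q₁'.map χ.toRingHom
  haveI : q₁.IsPrime := Ideal.map_isPrime_of_surjective hχ hkχ
  have hc : q₁.comap χ.toRingHom = q₁' := by
    show (q₁'.map χ.toRingHom).comap χ.toRingHom = q₁'
    rw [Ideal.comap_map_of_surjective χ.toRingHom hχ, ← RingHom.ker_eq_comap_bot, sup_eq_left.mpr hkχ]
  have hq₁ : q₁.comap (Algebra.TensorProduct.includeLeftRingHom : B →+* B ⊗[A] A₁) = q := by
    refine Ideal.comap_injective_of_surjective (algebraMap P B) hπ ?_
    rw [Ideal.comap_comap]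
    show _ = qP
    rw [← hq₁', ← hc, Ideal.comap_comap]
    congr 1
  obtain ⟨V, _, _, _, _, _, Q, _, h1, h2, h3, h4⟩ := h A₁ hA₁ q₁ inferInstance hq₁
  refine ⟨V, inferInstance, inferInstance, inferInstance, inferInstance, inferInstance,
    Q.comap (bcMap A P B V).toRingHom, Ideal.IsPrime.comap _, h1, ?_, ?_, (flatBC_surjective_iff hπ Q).mp h4⟩
  · rw [← h2, Ideal.comap_comap]
    congr 1
    exact RingHom.ext fun v => (bcMap_tmul 1 v).trans (by rw [map_one]; rfl)
  · rw [← hc, ← h3, Ideal.comap_comap, Ideal.comap_comap]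
    congr 1
    refine RingHom.ext fun x => ?_
    induction x using TensorProduct.induction_on with
    | zero => simp
    | add a b ha hb => simp only [map_add, ha, hb]
    | tmul p r =>
      show bcMap A P B V (rMap A P A₁ V (p ⊗ₜ r)) = rMap A B A₁ V (bcMap A P B A₁ (p ⊗ₜ r))
      rw [rMap_tmul, bcMap_tmul, bcMap_tmul, rMap_tmul]

end Groth.L07.FlatVal
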