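import Groth.Agent.L07.FlatVal.Core
import Groth.Agent.L07.FlatVal.FlatBC
import Groth.Agent.L20.FibreStage
import Groth.Agent.L06.NormalTensorApps
import Groth.Agent.S4433

/-!
One flat point over a dominating local ring gives flatness, over a normal noetherian base.
-/

universe u

open TensorProduct

namespace Groth.L07.FlatVal

set_option autoImplicit false
set_option linter.style.haveILetI false
set_option maxSynthPendingDepth 3

attribute [local instance] Algebra.TensorProduct.rightAlgebra

/-- A finitely generated algebra over a field has finite dimension. -/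
theorem exists_ringKrullDim_le (k R : Type u) [Field k] [CommRing R] [Algebra k R] [Algebra.FiniteType k R] :
    ∃ n : ℕ, ringKrullDim R ≤ (n : WithBot ℕ∞) := by
  obtain ⟨n, π, hπ⟩ := Algebra.FiniteType.iff_quotient_mvPolynomial''.mp ‹Algebra.FiniteType k R›
  refine ⟨n, (ringKrullDim_le_of_surjective π.toRingHom hπ).trans ?_⟩
  rw [MvPolynomial.ringKrullDim_of_isNoetherianRing, ringKrullDim_eq_zero_of_field, zero_add, Nat.card_fin]

set_option maxHeartbeats 1000000 in
set_option synthInstance.maxHeartbeats 100000 in
/-- A noetherian domain dominated by a local ring is dominated by a discrete valuation ring lying over a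
finitely generated stage. -/
theorem exists_dvr_of_stage {A V : Type u} [CommRing A] [IsLocalRing A] [IsDomain A] [IsNoetherianRing A] [CommRing V]
    [IsLocalRing V] [Algebra A V] [IsLocalHom (algebraMap A V)] (hA : ¬ IsField A)
    (hinj : Function.Injective (algebraMap A V)) (W : Subalgebra A V) (hW : W.FG) :
    ∃ (R : Type u) (_ : CommRing R) (_ : IsDomain R) (_ : IsDiscreteValuationRing R) (_ : Algebra A R) (_ : Algebra W R)
      (_ : IsScalarTower A W R), IsLocalHom (algebraMap A R) ∧ Function.Injective (algebraMap A R) ∧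
      (IsLocalRing.maximalIdeal R).comap (algebraMap W R) = (IsLocalRing.maximalIdeal V).comap W.val.toRingHom := by
  classical
  haveI : Algebra.FiniteType A W := W.fg_iff_finiteType.mp hW
  haveI : IsNoetherianRing W := Algebra.FiniteType.isNoetherianRing A W
  let n := (IsLocalRing.maximalIdeal V).comap W.val.toRingHom
  haveI : n.IsPrime := Ideal.IsPrime.comap _
  let L := Localization.AtPrime n
  haveI : IsNoetherianRing L := IsLocalization.isNoetherianRing n.primeCompl L inferInstance
  let S : Submonoid L := (nonZeroDivisors A).map (algebraMap A L)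
  have hAL : Function.Injective (algebraMap A L) := by
    let φ : L →+* V := IsLocalization.lift (M := n.primeCompl) (g := W.val.toRingHom) fun s => by
      by_contra hs
      exact s.2 hs
    refine Function.Injective.of_comp (f := φ) ?_
    show Function.Injective fun a => φ (algebraMap A L a)
    intro a b hab
    apply hinj
    simp only [IsScalarTower.algebraMap_apply A W L, φ, IsLocalization.lift_eq] at hab
    exact hab
  have hdisj : Disjoint ((⊥ : Ideal L) : Set L) S := by
    rw [Set.disjoint_left]
    rintro x hx ⟨a, ha, rfl⟩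
    exact nonZeroDivisors.ne_zero ha (hAL ((Ideal.mem_bot.mp hx).trans (map_zero _).symm))
  obtain ⟨𝔭, h𝔭, -, h𝔭d⟩ := Ideal.exists_le_prime_disjoint _ _ hdisj
  let D := L ⧸ 𝔭
  haveI : IsLocalRing D := IsLocalRing.of_surjective' (Ideal.Quotient.mk 𝔭) Ideal.Quotient.mk_surjective
  haveI : IsLocalHom (Ideal.Quotient.mk 𝔭) := IsLocalHom.of_surjective _ Ideal.Quotient.mk_surjective
  let ψ : W →+* D := (Ideal.Quotient.mk 𝔭).comp (algebraMap W L)
  have hψ : (IsLocalRing.maximalIdeal D).comap ψ = n := by
    ext w
    show Ideal.Quotient.mk 𝔭 (algebraMap W L w) ∈ IsLocalRing.maximalIdeal D ↔ w ∈ n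
    rw [IsLocalRing.mem_maximalIdeal, mem_nonunits_iff, isUnit_map_iff]
    exact IsLocalization.AtPrime.to_map_mem_maximal_iff L n w
  have hAD : Function.Injective (ψ.comp (algebraMap A W)) := by
    rw [injective_iff_map_eq_zero]
    intro a ha
    by_contra hne
    exact Set.disjoint_left.mp h𝔭d (Ideal.Quotient.eq_zero_iff_mem.mp ha)
      ⟨a, mem_nonZeroDivisors_of_ne_zero hne, IsScalarTower.algebraMap_apply A W L a⟩
  have hAm : ∀ a ∈ IsLocalRing.maximalIdeal A, ψ (algebraMap A W a) ∈ IsLocalRing.maximalIdeal D := fun a ha => by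
    have h1 : algebraMap A W a ∈ n := map_nonunit (algebraMap A V) a ha
    rw [← hψ] at h1
    exact h1
  have hD : ¬ IsField D := by
    intro hf
    apply hA
    rw [IsLocalRing.isField_iff_maximalIdeal_eq] at hf ⊢
    refine le_antisymm (fun a ha => ?_) bot_le
    have h2 := hAm a ha
    rw [hf, Ideal.mem_bot] at h2
    exact Ideal.mem_bot.mpr (hAD (h2.trans (map_zero _).symm))
  obtain ⟨R, _, _, hR, j, hjinj, hj⟩ : ∃ (R : Type u) (_ : CommRing R) (_ : IsDomain R)
      (_ : IsDiscreteValuationRing R) (j : D →+* R),
      Function.Injective j ∧ (IsLocalRing.maximalIdeal R).comap j = IsLocalRing.maximalIdeal D := by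
    obtain ⟨R, hR, hDR, hdom⟩ := Groth.Agent.S4433.result D hD (FractionRing D) (FractionRing D)
      ⟨∅, by simp [IntermediateField.adjoin_empty]; exact Subsingleton.elim _ _⟩
    haveI := hR
    let j : D →+* R := (algebraMap D (FractionRing D)).codRestrict R.toSubring hDR
    have hj : (IsLocalRing.maximalIdeal R).comap j = IsLocalRing.maximalIdeal D := by
      refine ((IsLocalRing.maximalIdeal.isMaximal D).eq_of_le (Ideal.IsPrime.ne_top inferInstance) fun d hd => ?_).symm
      rw [Ideal.mem_comap, IsLocalRing.mem_maximalIdeal, mem_nonunits_iff]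
      intro hu
      exact ((R.valuation_eq_one_iff (j d)).mp hu).not_lt (hdom d hd)
    exact ⟨R, inferInstance, inferInstance, hR, j,
      fun a b hab => IsFractionRing.injective D (FractionRing D) (congrArg Subtype.val hab), hj⟩
  letI : Algebra W R := (j.comp ψ).toAlgebra
  letI : Algebra A R := ((j.comp ψ).comp (algebraMap A W)).toAlgebra
  haveI : IsScalarTower A W R := IsScalarTower.of_algebraMap_eq fun _ => rfl
  refine ⟨R, inferInstance, inferInstance, hR, inferInstance, inferInstance, inferInstance, ⟨fun a hu => ?_⟩, ?_, ?_⟩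
  · by_contra ha
    have h1 : ψ (algebraMap A W a) ∈ IsLocalRing.maximalIdeal D := hAm a ha
    rw [← hj] at h1
    exact h1 hu
  · intro a b hab
    exact hAD (hjinj hab)
  · show (IsLocalRing.maximalIdeal R).comap (j.comp ψ) = n
    rw [← Ideal.comap_comap, hj, hψ]

set_option maxHeartbeats 1000000 in
/-- One flat point over a dominating local ring gives flatness, over a normal noetherian local domain. -/
theorem flat_of_flatBC_local {A V B M : Type u} [CommRing A] [IsLocalRing A] [IsDomain A] [IsNoetherianRing A]
    (hA : EGA4.IsNormalRing A) [CommRing V] [IsLocalRing V] [Algebra A V] [IsLocalHom (algebraMap A V)]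
    (hinj : Function.Injective (algebraMap A V)) [CommRing B] [Algebra A B] [Algebra.FiniteType A B]
    [AddCommGroup M] [Module A M] [Module B M] [IsScalarTower A B M] [Module.Finite B M]
    (q : Ideal B) [q.IsPrime] (hqm : q.comap (algebraMap A B) = IsLocalRing.maximalIdeal A)
    (Q : Ideal (B ⊗[A] V)) [Q.IsPrime]
    (hQq : Q.comap (Algebra.TensorProduct.includeLeftRingHom : B →+* B ⊗[A] V) = q)
    (hQm : Q.comap (algebraMap V (B ⊗[A] V)) = IsLocalRing.maximalIdeal V)
    (h : FlatBC A B V M Q) : Module.Flat A (LocalizedModule q.primeCompl M) := by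
  classical
  by_cases hfield : IsField A
  · letI := hfield.toField
    exact Module.Flat.of_free
  let S := B ⊗[A] V
  haveI : Algebra.IsPushout A V B S := .symm inferInstance
  haveI : Module.Flat V (LocalizedModule Q.primeCompl (S ⊗[B] M)) := h
  obtain ⟨W, hW, hstage⟩ := Groth.L20.FibreCrit.exists_flat_stage_prime (R₀ := A) (A := V) (U₀ := B) (M₀ := M) (U := S)
    (M := S ⊗[B] M) (TensorProduct.mk B S M 1) (TensorProduct.isBaseChange B M S) Q.primeCompl
  let SW := B ⊗[A] W
  haveI : Algebra.IsPushout A W B SW := .symm inferInstance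
  let χ := rMap A B W V
  haveI : (Q.comap χ.toRingHom).IsPrime := Ideal.IsPrime.comap _
  have hWflat : FlatBC A B W M (Q.comap χ.toRingHom) :=
    hstage SW (SW ⊗[B] M) (TensorProduct.mk B SW M 1) (TensorProduct.isBaseChange B M SW) χ.toRingHom
      (fun w => rMap_tmul 1 w) (fun b => (rMap_tmul b 1).trans (by rw [map_one]; rfl))
  obtain ⟨R, _, _, _, _, _, _, hloc, hRinj, hRn⟩ := exists_dvr_of_stage hfield hinj W hW
  haveI := hloc
  let SR := B ⊗[A] R
  let QW := Q.comap χ.toRingHom
  letI : Algebra SW SR := (rMap A B W R).toRingHom.toAlgebra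
  letI : Algebra W SR := ((algebraMap R SR).comp (algebraMap W R)).toAlgebra
  haveI : IsScalarTower W R SR := IsScalarTower.of_algebraMap_eq fun _ => rfl
  haveI : IsScalarTower A W SR := IsScalarTower.of_algebraMap_eq fun a => by
    rw [IsScalarTower.algebraMap_apply A R SR, IsScalarTower.algebraMap_apply A W R]
    rfl
  haveI : IsScalarTower W SW SR := IsScalarTower.of_algebraMap_eq fun v => by
    rw [IsScalarTower.algebraMap_apply W R SR]
    exact (rMap_tmul 1 v).symm
  haveI : IsScalarTower B SW SR := IsScalarTower.of_algebraMap_eq fun b => by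
    show algebraMap B SR b = rMap A B W R (b ⊗ₜ[A] (1 : W))
    rw [rMap_tmul, map_one]
    rfl
  haveI : Algebra.IsPushout A R B SR := .symm inferInstance
  haveI : Algebra.IsPushout W SW R SR :=
    .symm ((Algebra.IsPushout.comp_iff (R := A) (S := W) (R' := B) (S' := SW) (T := R) (T' := SR)).mp inferInstance)
  obtain ⟨QR, _, hQR, hQRR⟩ := Groth.L20.exists_prime_isPushout (R := W) (S := SW) (R' := R) (S' := SR) QW
    (IsLocalRing.maximalIdeal R) (by
      rw [hRn, ← hQm, Ideal.comap_comap, Ideal.comap_comap]
      congr 1)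
  obtain ⟨π, hπ⟩ := IsDiscreteValuationRing.exists_irreducible R
  have hflatR : FlatBC A B R M QR := FlatBC.trans (V := W) hWflat QR hQR
  let k := IsLocalRing.ResidueField A
  let I := (IsLocalRing.maximalIdeal A).map (algebraMap A B)
  letI : Algebra k (B ⧸ I) := (Ideal.Quotient.lift (IsLocalRing.maximalIdeal A) (algebraMap A (B ⧸ I)) fun a ha => by
    rw [IsScalarTower.algebraMap_apply A B (B ⧸ I), Ideal.Quotient.algebraMap_eq, Ideal.Quotient.eq_zero_iff_mem]
    exact Ideal.mem_map_of_mem _ ha).toAlgebra
  haveI : IsScalarTower A k (B ⧸ I) := IsScalarTower.of_algebraMap_eq fun _ => rfl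
  haveI : Algebra.FiniteType A (B ⧸ I) :=
    Algebra.FiniteType.of_surjective (Ideal.Quotient.mkₐ A I) Ideal.Quotient.mk_surjective
  haveI : Algebra.FiniteType k (B ⧸ I) := Algebra.FiniteType.of_restrictScalars_finiteType A k _
  obtain ⟨n, hn⟩ := exists_ringKrullDim_le k (B ⧸ I)
  refine flat_core hA hRinj hπ.maximalIdeal_eq n B M q hqm hn QR ?_ ?_ (hflatR.torsionFreeAt hπ.ne_zero)
  · rw [← hQq]
    have h2 : QR.comap (Algebra.TensorProduct.includeLeftRingHom : B →+* SR) =
        QW.comap (algebraMap B SW) := by
      rw [← hQR, Ideal.comap_comap, ← IsScalarTower.algebraMap_eq]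
      rfl
    rw [h2, Ideal.comap_comap]
    congr 1
  · show π ∈ QR.comap (algebraMap R SR)
    rw [hQRR, hπ.maximalIdeal_eq]
    exact Ideal.mem_span_singleton_self π

end Groth.L07.FlatVal
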