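import Groth.Agent.L07.FlatVal.FlatBC
import Groth.Agent.L23.SchemeFlatAt
import Mathlib.Algebra.Category.Ring.Constructions

/-!
Affine charts for flatness at a point and at the points of a base change.
-/

universe u

open CategoryTheory CategoryTheory.Limits AlgebraicGeometry TensorProduct

namespace Groth.L07.FlatVal

set_option autoImplicit false
set_option linter.style.haveILetI false
set_option maxSynthPendingDepth 3
set_option backward.isDefEq.respectTransparency.types false
set_option backward.isDefEq.respectTransparency false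

attribute [local instance] Algebra.TensorProduct.rightAlgebra

/-- Flatness of a stalk map of a morphism of spectra. -/
theorem flat_SpecMap_iff {R S : Type u} [CommRing R] [CommRing S] [Algebra R S] (P : Spec (CommRingCat.of S)) :
    ((Spec.map (CommRingCat.ofHom (algebraMap R S))).stalkMap P).hom.Flat ↔
      Module.Flat R (LocalizedModule P.asIdeal.primeCompl S) := by
  have hR := (RingHom.toMorphismProperty_respectsIso_iff (P := fun f => RingHom.Flat f)).mp
    RingHom.Flat.respectsIso
  have h := (RingHom.toMorphismProperty fun f => RingHom.Flat f).arrow_mk_iso_iff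
    (Scheme.arrowStalkMapSpecIso (CommRingCat.ofHom (algebraMap R S)) P)
  exact h.trans (Groth.L20.flat_localRingHom_iff _ _ rfl)

/-- The base change of the structure module is the base change of the algebra. -/
theorem flatBC_self_iff {A B V : Type u} [CommRing A] [CommRing B] [Algebra A B] [CommRing V] [Algebra A V]
    (Q : Ideal (B ⊗[A] V)) [Q.IsPrime] :
    FlatBC A B V B Q ↔ Module.Flat V (LocalizedModule Q.primeCompl (B ⊗[A] V)) := by
  let S := B ⊗[A] V
  let e : S ⊗[B] B ≃ₗ[S] S := TensorProduct.AlgebraTensorModule.rid B S S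
  refine (Groth.L20.flat_localizedModule_iff_of_semilinear (RingHom.id S) (e.restrictScalars V)
    (fun s m => e.map_smul s m) Q.primeCompl Q.primeCompl ?_).trans Iff.rfl
  exact (Submonoid.map_id _).symm

variable {A : Type u} [CommRing A] {X : Scheme.{u}} (f : X ⟶ Spec (CommRingCat.of A))

/-- An affine chart at a point, with the points of every base change lying over it. -/
theorem exists_affine_chart [LocallyOfFinitePresentation f] (x : X) :
    ∃ (B : Type u) (_ : CommRing B) (_ : Algebra A B) (_ : Algebra.FinitePresentation A B) (P : PrimeSpectrum B),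
      P.asIdeal.comap (algebraMap A B) = (f x).asIdeal ∧
      ((f.stalkMap x).hom.Flat ↔ Module.Flat A (LocalizedModule P.asIdeal.primeCompl B)) ∧
      ∀ (V : Type u) [CommRing V] [Algebra A V],
        (∀ z : ↥(pullback f (Spec.map (CommRingCat.ofHom (algebraMap A V)))),
          (pullback.fst f (Spec.map (CommRingCat.ofHom (algebraMap A V)))).base z = x →
          ∃ (Q : Ideal (B ⊗[A] V)) (_ : Q.IsPrime),
            Q.comap (Algebra.TensorProduct.includeLeftRingHom : B →+* B ⊗[A] V) = P.asIdeal ∧
            Q.comap (algebraMap V (B ⊗[A] V)) =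
              ((pullback.snd f (Spec.map (CommRingCat.ofHom (algebraMap A V)))).base z).asIdeal ∧
            (((pullback.snd f (Spec.map (CommRingCat.ofHom (algebraMap A V)))).stalkMap z).hom.Flat ↔
              FlatBC A B V B Q)) ∧
        ∀ (Q : Ideal (B ⊗[A] V)) (_ : Q.IsPrime),
          Q.comap (Algebra.TensorProduct.includeLeftRingHom : B →+* B ⊗[A] V) = P.asIdeal →
          ∃ z : ↥(pullback f (Spec.map (CommRingCat.ofHom (algebraMap A V)))),
            (pullback.fst f (Spec.map (CommRingCat.ofHom (algebraMap A V)))).base z = x ∧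
            ((pullback.snd f (Spec.map (CommRingCat.ofHom (algebraMap A V)))).base z).asIdeal =
              Q.comap (algebraMap V (B ⊗[A] V)) ∧
            (((pullback.snd f (Spec.map (CommRingCat.ofHom (algebraMap A V)))).stalkMap z).hom.Flat ↔
              FlatBC A B V B Q) := by
  obtain ⟨_, ⟨U, hU, rfl⟩, hxU, -⟩ := X.isBasis_affineOpens.exists_subset_of_mem_open (Set.mem_univ x) isOpen_univ
  change X.Opens at U
  change IsAffineOpen U at hU
  let ψ : CommRingCat.of A ⟶ Γ(X, U) := Spec.preimage (hU.fromSpec ≫ f)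
  have hψ : Spec.map ψ = hU.fromSpec ≫ f := Spec.map_preimage _
  haveI : LocallyOfFinitePresentation (Spec.map ψ) := hψ ▸ inferInstance
  letI : Algebra A Γ(X, U) := ψ.hom.toAlgebra
  haveI : Algebra.FinitePresentation A Γ(X, U) :=
    (HasRingHomProperty.Spec_iff (P := @LocallyOfFinitePresentation) (φ := ψ)).mp inferInstance
  obtain ⟨P, rfl⟩ : x ∈ Set.range hU.fromSpec := hU.range_fromSpec.symm ▸ hxU
  refine ⟨Γ(X, U), inferInstance, inferInstance, inferInstance, P, ?_, ?_, fun V _ _ => ?_⟩
  · rw [← Scheme.Hom.comp_apply, ← hψ]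
    rfl
  · rw [← Groth.L23.flat_stalkMap_etale_comp_iff, Groth.L23.flat_stalkMap_congr hψ.symm]
    exact flat_SpecMap_iff P
  let g := Spec.map (CommRingCat.ofHom (algebraMap A V))
  let iL := CommRingCat.ofHom (Algebra.TensorProduct.includeLeftRingHom : Γ(X, U) →+* Γ(X, U) ⊗[A] V)
  let iR := CommRingCat.ofHom (algebraMap V (Γ(X, U) ⊗[A] V))
  have hpb : IsPullback (Spec.map iL) (Spec.map iR) (hU.fromSpec ≫ f) g := by
    rw [← hψ]
    exact isPullback_SpecMap_of_isPushout _ _ _ _ (CommRingCat.isPushout_tensorProduct A Γ(X, U) V)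
  let c : Spec (CommRingCat.of (Γ(X, U) ⊗[A] V)) ⟶ pullback f g :=
    pullback.lift (Spec.map iL ≫ hU.fromSpec) (Spec.map iR) (by rw [Category.assoc]; exact hpb.w)
  have hc1 : c ≫ pullback.fst f g = Spec.map iL ≫ hU.fromSpec := pullback.lift_fst _ _ _
  have hc2 : c ≫ pullback.snd f g = Spec.map iR := pullback.lift_snd _ _ _
  have hc : IsPullback c (Spec.map iL) (pullback.fst f g) hU.fromSpec := by
    refine IsPullback.of_right ?_ hc1 (IsPullback.of_hasPullback f g).flip
    rw [hc2]
    exact hpb.flip
  haveI : IsOpenImmersion c := MorphismProperty.of_isPullback hc.flip hU.isOpenImmersion_fromSpec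
  have hflat : ∀ P' : Spec (CommRingCat.of (Γ(X, U) ⊗[A] V)),
      ((pullback.snd f g).stalkMap (c P')).hom.Flat ↔ FlatBC A Γ(X, U) V Γ(X, U) P'.asIdeal := by
    intro P'
    rw [← Groth.L23.flat_stalkMap_etale_comp_iff, Groth.L23.flat_stalkMap_congr hc2, flatBC_self_iff]
    exact flat_SpecMap_iff (R := V) (S := Γ(X, U) ⊗[A] V) P'
  refine ⟨fun z hz => ?_, fun Q _ hQ => ?_⟩
  · obtain ⟨P', rfl, hP'⟩ := Scheme.exists_preimage_of_isPullback hc z P hz
    refine ⟨P'.asIdeal, inferInstance, congrArg PrimeSpectrum.asIdeal hP', ?_, hflat P'⟩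
    have := congrArg (fun φ => (φ.base P').asIdeal) hc2
    exact this.symm
  · let P' : Spec (CommRingCat.of (Γ(X, U) ⊗[A] V)) := ⟨Q, inferInstance⟩
    refine ⟨c P', ?_, ?_, hflat P'⟩
    · show pullback.fst f g (c P') = _
      rw [← Scheme.Hom.comp_apply, hc1, Scheme.Hom.comp_apply]
      congr 1
      exact PrimeSpectrum.ext hQ
    · exact congrArg (fun φ => (φ.base P').asIdeal) hc2

end Groth.L07.FlatVal
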