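import Groth.Agent.L07.FlatVal.Dvr
import Groth.Agent.L07.FlatVal.Scheme
import Groth.Agent.L23.FlatLift

/-!
The valuative criterion of flatness at a point of a scheme.
-/

universe u

open CategoryTheory CategoryTheory.Limits AlgebraicGeometry TensorProduct

namespace Groth.L07.FlatVal

set_option autoImplicit false
set_option linter.style.haveILetI false
set_option maxSynthPendingDepth 3
set_option backward.isDefEq.respectTransparency.types false
set_option backward.isDefEq.respectTransparency false

attribute [local instance] Algebra.TensorProduct.rightAlgebra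

variable {X Y : Scheme.{u}} (f : X ⟶ Y) (y : Y)

/-- Flatness at a point of the base change to the local scheme of the base. -/
theorem flat_stalkBase_iff (x₀ : ↥(pullback f (Y.fromSpecStalk y)))
    (h : (pullback.snd f (Y.fromSpecStalk y)).base x₀ = IsLocalRing.closedPoint (Y.presheaf.stalk y)) :
    (f.stalkMap ((pullback.fst f (Y.fromSpecStalk y)).base x₀)).hom.Flat ↔
      ((pullback.snd f (Y.fromSpecStalk y)).stalkMap x₀).hom.Flat := by
  let ι := Y.fromSpecStalk y
  haveI : Flat ι := Groth.L23.flat_fromSpecStalk y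
  haveI : Flat (pullback.fst f ι) := inferInstance
  have h1 : ((pullback.fst f ι ≫ f).stalkMap x₀).hom.Flat ↔
      (f.stalkMap ((pullback.fst f ι).base x₀)).hom.Flat :=
    ⟨fun hf => Groth.L20.flat_stalkMap_of_comp _ _ x₀ hf (Flat.stalkMap (pullback.fst f ι) x₀),
      fun hf => Groth.L23.flat_stalkMap_comp _ _ x₀ (Flat.stalkMap (pullback.fst f ι) x₀) hf⟩
  have h2 : ((pullback.snd f ι ≫ ι).stalkMap x₀).hom.Flat ↔ ((pullback.snd f ι).stalkMap x₀).hom.Flat := by
    haveI : IsIso (ι.stalkMap ((pullback.snd f ι).base x₀)) := by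
      refine (ConcreteCategory.isIso_iff_bijective _).mpr ⟨?_, ι.stalkMap_surjective _⟩
      have hσ := Flat.stalkMap ι ((pullback.snd f ι).base x₀)
      algebraize [(ι.stalkMap ((pullback.snd f ι).base x₀)).hom]
      haveI : IsLocalHom (algebraMap (Y.presheaf.stalk (ι ((pullback.snd f ι).base x₀)))
          ((Spec (Y.presheaf.stalk y)).presheaf.stalk ((pullback.snd f ι).base x₀))) :=
        inferInstanceAs (IsLocalHom (ι.stalkMap ((pullback.snd f ι).base x₀)).hom)
      haveI : Module.FaithfullyFlat (Y.presheaf.stalk (ι ((pullback.snd f ι).base x₀)))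
          ((Spec (Y.presheaf.stalk y)).presheaf.stalk ((pullback.snd f ι).base x₀)) :=
        Module.FaithfullyFlat.of_flat_of_isLocalHom
      exact FaithfulSMul.algebraMap_injective (Y.presheaf.stalk (ι ((pullback.snd f ι).base x₀)))
          ((Spec (Y.presheaf.stalk y)).presheaf.stalk ((pullback.snd f ι).base x₀))
    rw [Scheme.Hom.stalkMap_comp]
    refine ⟨fun hf => ?_, fun hf => RingHom.Flat.comp (RingHom.Flat.of_bijective
      (ConcreteCategory.bijective_of_isIso (ι.stalkMap ((pullback.snd f ι).base x₀)))) hf⟩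
    let e := (asIso (ι.stalkMap ((pullback.snd f ι).base x₀))).commRingCatIsoToRingEquiv
    have h3 := (RingHom.Flat.of_bijective (f := e.symm.toRingHom) e.symm.bijective).comp hf
    have heq : (ι.stalkMap ((pullback.snd f ι).base x₀) ≫ (pullback.snd f ι).stalkMap x₀).hom.comp e.symm.toRingHom =
        ((pullback.snd f ι).stalkMap x₀).hom := RingHom.ext fun a => by
      show ((pullback.snd f ι).stalkMap x₀).hom (e (e.symm a)) = _
      rw [e.apply_symm_apply]
    rw [heq] at h3
    exact h3
  exact h1.symm.trans ((Groth.L23.flat_stalkMap_congr pullback.condition x₀).trans h2)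

set_option maxHeartbeats 1000000 in
/-- EGA IV 11.8: the valuative criterion of flatness at a point. -/
theorem flat_stalkMap_iff_forall_dvr [LocallyOfFinitePresentation f] (x : X)
    [IsNoetherianRing (Y.presheaf.stalk (f.base x))] [_root_.IsReduced (Y.presheaf.stalk (f.base x))] :
    (f.stalkMap x).hom.Flat ↔
      ∀ (A' : Type u) [CommRing A'] [IsDomain A'] [IsDiscreteValuationRing A']
        (φ : (Y.presheaf.stalk (f.base x) : Type u) →+* A') [IsLocalHom φ],
        ∀ x' : ↥(pullback f (Spec.map (CommRingCat.ofHom φ) ≫ Y.fromSpecStalk (f.base x))),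
          (pullback.fst f _).base x' = x →
          (pullback.snd f _).base x' = IsLocalRing.closedPoint A' →
          ((pullback.snd f (Spec.map (CommRingCat.ofHom φ) ≫ Y.fromSpecStalk (f.base x))).stalkMap x').hom.Flat := by
  let A : Type u := Y.presheaf.stalk (f.base x)
  let ι : Spec (CommRingCat.of A) ⟶ Y := Y.fromSpecStalk (f.base x)
  let f₀ : pullback f ι ⟶ Spec (CommRingCat.of A) := pullback.snd f ι
  obtain ⟨x₀, hx₀, hx₀'⟩ := Scheme.Pullback.exists_preimage_pullback (f := f) (g := ι) x (IsLocalRing.closedPoint A)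
    Scheme.fromSpecStalk_closedPoint.symm
  constructor
  · intro hf A' _ _ _ φ _ x' h1 h2
    letI : Algebra A A' := RingHom.toAlgebra φ
    let g' := Spec.map (CommRingCat.ofHom (algebraMap A A'))
    let e := pullbackLeftPullbackSndIso f ι g'
    obtain ⟨z, rfl⟩ := e.hom.surjective x'
    have hz2 : (pullback.snd f₀ g').base z = IsLocalRing.closedPoint A' := by
      rw [← pullbackLeftPullbackSndIso_hom_snd, Scheme.Hom.comp_apply]
      exact h2
    let x₁ := (pullback.fst f₀ g').base z
    have hx₁ : (pullback.fst f ι).base x₁ = x := by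
      rw [← Scheme.Hom.comp_apply, ← pullbackLeftPullbackSndIso_hom_fst, Scheme.Hom.comp_apply]
      exact h1
    have hx₁' : (pullback.snd f ι).base x₁ = IsLocalRing.closedPoint A := by
      rw [← Scheme.Hom.comp_apply, pullback.condition, Scheme.Hom.comp_apply, hz2]
      haveI : IsLocalHom (algebraMap A A') := ‹IsLocalHom φ›
      exact IsLocalRing.comap_closedPoint (algebraMap A A')
    have hf₁ : (f₀.stalkMap x₁).hom.Flat := (flat_stalkBase_iff f _ x₁ hx₁').mp (hx₁.symm ▸ hf)
    obtain ⟨B, _, _, _, P, -, hflat, hpts⟩ := exists_affine_chart f₀ x₁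
    haveI := hflat.mp hf₁
    obtain ⟨Q, hQ, hQP, hQm, hQflat⟩ := (hpts A').1 z rfl
    have hbc : FlatBC A B A' B Q := by
      let S := B ⊗[A] A'
      haveI : Algebra.IsPushout A A' B S := .symm inferInstance
      haveI : Algebra.IsPushout A B A' S := inferInstance
      haveI : IsScalarTower A A' (S ⊗[B] B) := IsScalarTower.of_algebraMap_smul fun s w => by
        induction w using TensorProduct.induction_on with
        | zero => simp
        | add a b ha hb => simp only [smul_add, ha, hb]
        | tmul a m => rw [TensorProduct.smul_tmul', TensorProduct.smul_tmul', algebraMap_smul]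
      haveI : IsScalarTower A' S (S ⊗[B] B) := IsScalarTower.of_algebraMap_smul fun s w => by
        induction w using TensorProduct.induction_on with
        | zero => simp
        | add a b ha hb => simp only [smul_add, ha, hb]
        | tmul a m => rw [TensorProduct.smul_tmul', TensorProduct.smul_tmul', algebraMap_smul]
      exact Groth.L20.flat_localizedModule_of_isBaseChange (R := A) (R' := A') (TensorProduct.mk B S B 1)
        (Groth.L20.isBaseChange_restrictScalars (TensorProduct.isBaseChange B B S)) P.asIdeal.primeCompl Q.primeCompl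
        fun t ht hmem => ht (hQP ▸ hmem)
    refine (Groth.L23.flat_stalkMap_etale_comp_iff e.hom (pullback.snd f (g' ≫ ι)) z).mp ?_
    rw [Groth.L23.flat_stalkMap_congr (pullbackLeftPullbackSndIso_hom_snd f ι g')]
    exact hQflat.mpr hbc
  · intro h
    have hx₀fst : (pullback.fst f ι).base x₀ = x := hx₀
    rw [← hx₀fst]
    refine (flat_stalkBase_iff f _ x₀ hx₀').mpr ?_
    obtain ⟨B, _, _, _, P, hP, hflat, hpts⟩ := exists_affine_chart f₀ x₀
    refine hflat.mpr (flat_of_dvr P.asIdeal ?_ fun R _ _ _ _ _ Q _ hQP hQm => ?_)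
    · rw [hP, show f₀ x₀ = IsLocalRing.closedPoint A from hx₀']
      rfl
    let g' := Spec.map (CommRingCat.ofHom (algebraMap A R))
    obtain ⟨z, hz1, hz2, hz3⟩ := (hpts R).2 Q inferInstance hQP
    refine hz3.mp ?_
    let e := pullbackLeftPullbackSndIso f ι g'
    rw [Groth.L23.flat_stalkMap_congr (pullbackLeftPullbackSndIso_hom_snd f ι g').symm,
      Groth.L23.flat_stalkMap_etale_comp_iff]
    refine h R (algebraMap A R) (e.hom.base z) ?_ ?_
    · rw [← Scheme.Hom.comp_apply, pullbackLeftPullbackSndIso_hom_fst, Scheme.Hom.comp_apply]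
      exact (congrArg (pullback.fst f ι).base hz1).trans hx₀fst
    · rw [← Scheme.Hom.comp_apply, pullbackLeftPullbackSndIso_hom_snd]
      exact PrimeSpectrum.ext (hz2.trans hQm)

end Groth.L07.FlatVal
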