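import Groth.Agent.L07.FlatVal.Basic
import Mathlib.LinearAlgebra.Matrix.Charpoly.LinearMap
import Mathlib.RingTheory.Filtration
import Mathlib.RingTheory.FiniteType
import Mathlib.RingTheory.DiscreteValuationRing.Basic
import Mathlib.RingTheory.Localization.FractionRing
import Mathlib.RingTheory.Flat.Localization
import Mathlib.LinearAlgebra.LinearIndependent.Lemmas
import Mathlib.RingTheory.LocalRing.ResidueField.Basic

/-!
The inductive step of the valuative criterion of flatness (EGA IV 11.6): a generic basis of the closed fibre over a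
smooth algebra.
-/

universe u

open TensorProduct

namespace Groth.L07.FlatVal

set_option autoImplicit false
set_option linter.style.haveILetI false
set_option maxSynthPendingDepth 3

variable {A V P M : Type u} [CommRing A] [IsLocalRing A] [IsDomain A] [CommRing V] [IsDomain V] [IsDiscreteValuationRing V]
  [Algebra A V] [IsLocalHom (algebraMap A V)] [CommRing P] [Algebra A P] [AddCommGroup M] [Module P M]

/-- A finite module over a domain has a free submodule with torsion quotient. -/
theorem exists_free_submodule {D M₀ : Type u} [CommRing D] [IsDomain D] [AddCommGroup M₀] [Module D M₀]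
    [Module.Finite D M₀] :
    ∃ (r : ℕ) (v : Fin r → M₀) (c : D), c ≠ 0 ∧ LinearIndependent D v ∧
      ∀ y, c • y ∈ Submodule.span D (Set.range v) := by
  classical
  obtain ⟨s, hs⟩ := Module.Finite.fg_top (R := D) (M := M₀)
  obtain ⟨I, hI, hmax⟩ := exists_maximal_linearIndepOn D (Subtype.val : (↥(s : Set M₀)) → M₀)
  choose! a ha hav using hmax
  haveI : Fintype I := Fintype.ofFinite I
  let v : Fin (Fintype.card I) → M₀ := fun l => ((Fintype.equivFin I).symm l).1.1
  refine ⟨_, v, ∏ g ∈ (Finset.univ : Finset ↥(s : Set M₀)).filter (· ∉ I), a g, Finset.prod_ne_zero_iff.mpr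
    fun g hg => ha g (Finset.mem_filter.mp hg).2, hI.linearIndependent.comp _ (Fintype.equivFin I).symm.injective, ?_⟩
  intro y
  have hy : y ∈ Submodule.span D (s : Set M₀) := hs ▸ Submodule.mem_top
  have hr : Set.range v = Subtype.val '' I := by
    refine Set.ext fun z => ⟨fun ⟨l, hl⟩ => ⟨_, ((Fintype.equivFin I).symm l).2, hl⟩, fun ⟨g, hg, hgz⟩ =>
      ⟨Fintype.equivFin I ⟨g, hg⟩, by simp [v, hgz]⟩⟩
  rw [hr]
  induction hy using Submodule.span_induction with
  | zero => simp
  | add x z _ _ hx hz => rw [smul_add]; exact add_mem hx hz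
  | smul d x _ hx => rw [smul_comm]; exact Submodule.smul_mem _ d hx
  | mem g hg =>
    by_cases hgI : (⟨g, hg⟩ : ↥(s : Set M₀)) ∈ I
    · exact Submodule.smul_mem _ _ (Submodule.subset_span ⟨_, hgI, rfl⟩)
    · rw [← Finset.mul_prod_erase _ a (Finset.mem_filter.mpr ⟨Finset.mem_univ ⟨g, hg⟩, hgI⟩), mul_comm, mul_smul]
      exact Submodule.smul_mem _ _ (hav ⟨g, hg⟩ hgI)

attribute [local instance] Algebra.TensorProduct.rightAlgebra in
theorem isNoetherianRing_bc [IsNoetherianRing V] [Algebra.FiniteType A P] : IsNoetherianRing (P ⊗[A] V) := by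
  haveI : Algebra.FiniteType V (V ⊗[A] P) := inferInstance
  haveI : IsNoetherianRing (V ⊗[A] P) := Algebra.FiniteType.isNoetherianRing V _
  exact isNoetherianRing_of_ringEquiv (V ⊗[A] P) (Algebra.TensorProduct.comm A V P).toRingEquiv

set_option maxHeartbeats 1000000 in
/-- The map from a free module with injective reduction, after base change to `V`. -/
theorem mem_span_of_reduction [Module A M] [IsScalarTower A P M] {r : ℕ}
    (v : Fin r → M) (hv : LinearIndependent (P ⧸ (IsLocalRing.maximalIdeal A).map (algebraMap A P))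
      (fun i => (Submodule.Quotient.mk (v i) :
        M ⧸ (IsLocalRing.maximalIdeal A).map (algebraMap A P) • (⊤ : Submodule P M))))
    {π : V} (hπ : IsLocalRing.maximalIdeal V = Ideal.span {π}) (x : Fin r → P ⊗[A] V)
    (hx : ∃ w, ∑ i, x i • ((1 : P ⊗[A] V) ⊗ₜ[P] v i) = ((1 : P) ⊗ₜ[A] π) • w) :
    ∀ i, x i ∈ Ideal.span {(1 : P) ⊗ₜ[A] π} := by
  classical
  let k := IsLocalRing.ResidueField A
  let K := IsLocalRing.ResidueField V
  let I := (IsLocalRing.maximalIdeal A).map (algebraMap A P)
  let D := P ⧸ I
  let M₀ := M ⧸ I • (⊤ : Submodule P M)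
  letI : Algebra k D := (Ideal.Quotient.lift (IsLocalRing.maximalIdeal A) (algebraMap A D) fun a ha => by
    rw [IsScalarTower.algebraMap_apply A P D, Ideal.Quotient.algebraMap_eq, Ideal.Quotient.eq_zero_iff_mem]
    exact Ideal.mem_map_of_mem _ ha).toAlgebra
  haveI : IsScalarTower A k D := IsScalarTower.of_algebraMap_eq fun _ => rfl
  letI : Module k M₀ := Module.compHom M₀ (algebraMap k D)
  haveI : IsScalarTower k D M₀ := IsScalarTower.of_algebraMap_smul fun _ _ => rfl
  haveI : IsScalarTower A k M₀ := IsScalarTower.of_algebraMap_smul fun a m => by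
    show algebraMap k D (algebraMap A k a) • m = a • m
    rw [← IsScalarTower.algebraMap_apply, IsScalarTower.algebraMap_apply A P D, Ideal.Quotient.algebraMap_eq]
    exact algebraMap_smul P a m
  let φ : P ⊗[A] V →ₗ[A] D ⊗[k] K :=
    (TensorProduct.mapOfCompatibleSMul k A A D K) ∘ₗ
      TensorProduct.map (IsScalarTower.toAlgHom A P D).toLinearMap (IsScalarTower.toAlgHom A V K).toLinearMap
  let Θ : (P ⊗[A] V) ⊗[P] M →ₗ[A] M₀ ⊗[k] K :=
    (TensorProduct.mapOfCompatibleSMul k A A M₀ K) ∘ₗ
      (TensorProduct.map ((I • (⊤ : Submodule P M)).mkQ.restrictScalars A) (IsScalarTower.toAlgHom A V K).toLinearMap) ∘ₗ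
      ((TensorProduct.comm P (P ⊗[A] V) M).restrictScalars A ≪≫ₗ
        (TensorProduct.AlgebraTensorModule.cancelBaseChange A P P M V).restrictScalars A).toLinearMap
  have hΘ : ∀ p u m, Θ ((p ⊗ₜ[A] u) ⊗ₜ[P] m) = (Submodule.Quotient.mk (p • m) : M₀) ⊗ₜ[k] (algebraMap V K u) :=
    fun p u m => by simp [Θ]
  have hΘπ : ∀ w, Θ (((1 : P) ⊗ₜ[A] π) • w) = 0 := fun w => by
    induction w using TensorProduct.induction_on with
    | zero => simp
    | add a b ha hb => simp only [smul_add, map_add, ha, hb, add_zero]
    | tmul s m =>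
      rw [TensorProduct.smul_tmul', smul_eq_mul]
      induction s using TensorProduct.induction_on with
      | zero => simp
      | add a b ha hb => simp only [mul_add, TensorProduct.add_tmul, map_add, ha, hb, add_zero]
      | tmul p u =>
        rw [Algebra.TensorProduct.tmul_mul_tmul, hΘ, map_mul, show algebraMap V K π = 0 from
          (IsLocalRing.residue_eq_zero_iff π).mpr (hπ ▸ Ideal.mem_span_singleton_self π), zero_mul, TensorProduct.tmul_zero]
  let ᾱ : (Fin r → D) →ₗ[k] M₀ := (Fintype.linearCombination D fun i => (Submodule.Quotient.mk (v i) : M₀)).restrictScalars k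
  have hα : Function.Injective (ᾱ.rTensor K) := Module.Flat.rTensor_preserves_injective_linearMap _
    (linearIndependent_iff_injective_fintypeLinearCombination.mp hv)
  let ι : Fin r → D ⊗[k] K →ₗ[k] (Fin r → D) ⊗[k] K := fun i => (LinearMap.single k (fun _ : Fin r => D) i).rTensor K
  have hcomm : ∀ (i : Fin r) (s : P ⊗[A] V), ᾱ.rTensor K (ι i (φ s)) = Θ (s ⊗ₜ[P] v i) := fun i s => by
    induction s using TensorProduct.induction_on with
    | zero => simp
    | add a b ha hb => simp only [map_add, TensorProduct.add_tmul, ha, hb]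
    | tmul p u =>
      rw [hΘ]
      simp only [φ, ι, LinearMap.comp_apply, TensorProduct.map_tmul, TensorProduct.mapOfCompatibleSMul_tmul,
        LinearMap.rTensor_tmul]
      congr 1
      show Fintype.linearCombination D _ (Pi.single i (algebraMap P D p)) = _
      rw [Fintype.linearCombination_apply_single, Submodule.Quotient.mk_smul]
      exact algebraMap_smul D p _
  obtain ⟨w, hw⟩ := hx
  have h0 : ∑ i, ι i (φ (x i)) = 0 := hα (by
    rw [map_sum, map_zero, Finset.sum_congr rfl (fun i _ => hcomm i (x i)), ← map_sum]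
    rw [show ∑ i, x i ⊗ₜ[P] v i = ∑ i, x i • ((1 : P ⊗[A] V) ⊗ₜ[P] v i) from
      Finset.sum_congr rfl fun i _ => by rw [TensorProduct.smul_tmul', smul_eq_mul, mul_one], hw, hΘπ])
  intro i
  have hi : φ (x i) = 0 := by
    have := congrArg ((LinearMap.proj i : (Fin r → D) →ₗ[k] D).rTensor K) h0
    rw [map_sum, map_zero, Finset.sum_eq_single i] at this
    · rwa [← LinearMap.comp_apply, ← LinearMap.rTensor_comp, show (LinearMap.proj i).comp (LinearMap.single k (fun _ : Fin r => D) i) = LinearMap.id from
        LinearMap.ext fun z => by simp, LinearMap.rTensor_id] at this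
    · intro j _ hne
      rw [← LinearMap.comp_apply, ← LinearMap.rTensor_comp, show (LinearMap.proj i).comp (LinearMap.single k (fun _ : Fin r => D) j) = 0 from
        LinearMap.ext fun z => by simp [Ne.symm hne], LinearMap.rTensor_zero, LinearMap.zero_apply]
    · simp
  have hker : (TensorProduct.map (IsScalarTower.toAlgHom A P D).toLinearMap (IsScalarTower.toAlgHom A V K).toLinearMap) (x i) = 0 := by
    haveI : TensorProduct.CompatibleSMul A k D K :=
      TensorProduct.CompatibleSMul.of_algebraMap_surjective _ _ (Ideal.Quotient.mk_surjective (I := IsLocalRing.maximalIdeal A))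
    have hbij : Function.Bijective (TensorProduct.mapOfCompatibleSMul k A A D K) :=
      (TensorProduct.equivOfCompatibleSMul k A A D K).bijective
    exact hbij.1 (hi.trans (map_zero _).symm)
  have hk := Algebra.TensorProduct.map_ker (IsScalarTower.toAlgHom A P D) (IsScalarTower.toAlgHom A V K)
    Ideal.Quotient.mk_surjective Ideal.Quotient.mk_surjective
  have hmem : x i ∈ RingHom.ker (Algebra.TensorProduct.map (IsScalarTower.toAlgHom A P D) (IsScalarTower.toAlgHom A V K)) := hker
  rw [hk] at hmem
  refine (sup_le ?_ ?_ : _ ≤ Ideal.span {(1 : P) ⊗ₜ[A] π}) hmem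
  · refine Ideal.map_le_iff_le_comap.mpr fun p hp => ?_
    have hp' : p ∈ (IsLocalRing.maximalIdeal A).map (algebraMap A P) := Ideal.Quotient.eq_zero_iff_mem.mp hp
    refine (Ideal.map_le_iff_le_comap.mpr fun a ha => ?_ : _ ≤ (Ideal.span {(1 : P) ⊗ₜ[A] π}).comap
      (Algebra.TensorProduct.includeLeft : P →ₐ[A] P ⊗[A] V)) hp'
    obtain ⟨u, hu⟩ := Ideal.mem_span_singleton.mp (hπ ▸ map_nonunit (algebraMap A V) a ha)
    simp only [Ideal.mem_comap]
    show algebraMap A P a ⊗ₜ[A] (1 : V) ∈ Ideal.span {(1 : P) ⊗ₜ[A] π}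
    rw [Algebra.algebraMap_eq_smul_one, TensorProduct.smul_tmul, ← Algebra.algebraMap_eq_smul_one, hu,
      show (1 : P) ⊗ₜ[A] (π * u) = ((1 : P) ⊗ₜ[A] π) * ((1 : P) ⊗ₜ u) by simp]
    exact Ideal.mem_span_singleton.mpr (dvd_mul_right _ _)
  · refine Ideal.map_le_iff_le_comap.mpr fun u hu => ?_
    obtain ⟨u, rfl⟩ := Ideal.mem_span_singleton.mp (hπ ▸ (IsLocalRing.residue_eq_zero_iff u).mp hu)
    simp only [Ideal.mem_comap]
    show (1 : P) ⊗ₜ[A] (π * u) ∈ Ideal.span {(1 : P) ⊗ₜ[A] π}
    rw [show (1 : P) ⊗ₜ[A] (π * u) = ((1 : P) ⊗ₜ[A] π) * ((1 : P) ⊗ₜ u) by simp]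
    exact Ideal.mem_span_singleton.mpr (dvd_mul_right _ _)

/-- A nonzero element of a flat domain stays a non-zero-divisor after an injective base change to a domain. -/
theorem eq_zero_of_mul_tmul {Pl : Type u} [CommRing Pl] [IsDomain Pl] [Algebra A Pl] [Module.Flat A Pl]
    (hinj : Function.Injective (algebraMap A V)) {x : Pl} (hx : x ≠ 0) (t : Pl ⊗[A] V) (ht : t * (x ⊗ₜ 1) = 0) : t = 0 := by
  let K := FractionRing A
  let L := FractionRing V
  have hAL : Function.Injective (algebraMap A L) := by
    rw [IsScalarTower.algebraMap_eq A V L]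
    exact (IsFractionRing.injective V L).comp hinj
  letI : Algebra K L := (IsFractionRing.lift hAL : K →+* L).toAlgebra
  haveI : IsScalarTower A K L := IsScalarTower.of_algebraMap_eq fun a =>
    (IsFractionRing.lift_algebraMap hAL a).symm
  haveI : Module.Flat A L := Module.Flat.trans A K L
  let i : Pl ⊗[A] V →ₗ[A] Pl ⊗[A] L := (IsScalarTower.toAlgHom A V L).toLinearMap.lTensor Pl
  have hi : Function.Injective i :=
    Module.Flat.lTensor_preserves_injective_linearMap _ (IsFractionRing.injective V L)
  have hm : Function.Injective ((LinearMap.mulRight A x).rTensor L) :=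
    Module.Flat.rTensor_preserves_injective_linearMap _ (mul_left_injective₀ hx)
  apply hi
  apply hm
  rw [map_zero, map_zero]
  have : ∀ t, (LinearMap.mulRight A x).rTensor L (i t) = i (t * (x ⊗ₜ 1)) := fun t => by
    induction t using TensorProduct.induction_on with
    | zero => simp
    | add a b ha hb => simp only [map_add, add_mul, ha, hb]
    | tmul p u => simp [i]
  rw [this, ht, map_zero]

set_option maxHeartbeats 1000000 in
/-- The step: a map from a free module, injective at `ξ`, whose cokernel is killed by an element nonzero in the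
closed fibre and is again torsion-free at `Π`. -/
theorem exists_step [Algebra.FiniteType A P] [Module.Flat A P] [Module A M] [IsScalarTower A P M] [Module.Finite P M]
    [IsDomain (P ⧸ (IsLocalRing.maximalIdeal A).map (algebraMap A P))]
    (hinj : Function.Injective (algebraMap A V)) (ξ : Ideal P) [ξ.IsPrime] [IsDomain (Localization.AtPrime ξ)]
    {π : V} (hπ : IsLocalRing.maximalIdeal V = Ideal.span {π}) (Qp : Ideal (P ⊗[A] V)) [Qp.IsPrime]
    (hQξ : Qp.comap (Algebra.TensorProduct.includeLeftRingHom : P →+* P ⊗[A] V) = ξ) (hQπ : (1 : P) ⊗ₜ[A] π ∈ Qp)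
    (htf : TorsionFreeAt A P V M π Qp) :
    ∃ (r : ℕ) (α : (Fin r → P) →ₗ[P] M) (c : P),
      c ∉ (IsLocalRing.maximalIdeal A).map (algebraMap A P) ∧ (∀ y, c • y ∈ LinearMap.range α) ∧
      (∀ z, α z = 0 → ∃ s ∉ ξ, s • z = 0) ∧ TorsionFreeAt A P V (M ⧸ LinearMap.range α) π Qp := by
  classical
  let I := (IsLocalRing.maximalIdeal A).map (algebraMap A P)
  let M₀ := M ⧸ I • (⊤ : Submodule P M)
  haveI : Module.Finite (P ⧸ I) M₀ := Module.Finite.of_restrictScalars_finite P _ _
  obtain ⟨r, v₀, c₀, hc₀, hv₀, hcv⟩ := exists_free_submodule (D := P ⧸ I) (M₀ := M₀)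
  choose v hv using fun i => Submodule.Quotient.mk_surjective (I • (⊤ : Submodule P M)) (v₀ i)
  obtain rfl : v₀ = fun i => Submodule.Quotient.mk (v i) := funext fun i => (hv i).symm
  let α : (Fin r → P) →ₗ[P] M := Fintype.linearCombination P v
  obtain ⟨c₁, rfl⟩ := Ideal.Quotient.mk_surjective c₀
  -- an element killing the cokernel
  let C := M ⧸ LinearMap.range α
  have hle : LinearMap.range (c₁ • LinearMap.id : Module.End P C) ≤ I • ⊤ := by
    rintro _ ⟨y, rfl⟩
    obtain ⟨y, rfl⟩ := Submodule.Quotient.mk_surjective _ y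
    obtain ⟨b, hb⟩ := (Submodule.mem_span_range_iff_exists_fun _).mp (hcv (Submodule.Quotient.mk y))
    choose b' hb' using fun i => Ideal.Quotient.mk_surjective (b i)
    have hdiff : c₁ • y - α b' ∈ I • (⊤ : Submodule P M) := by
      rw [← Submodule.Quotient.eq, Fintype.linearCombination_apply, Submodule.Quotient.mk_smul,
        ← Submodule.mkQ_apply, ← Submodule.mkQ_apply, map_sum]
      refine Eq.trans ?_ (Finset.sum_congr rfl fun i _ => (map_smul (I • (⊤ : Submodule P M)).mkQ (b' i) (v i)).symm)
      rw [← algebraMap_smul (P ⧸ I) c₁, Ideal.Quotient.algebraMap_eq]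
      refine hb.symm.trans (Finset.sum_congr rfl fun i _ => ?_)
      rw [← hb' i]
      exact algebraMap_smul (P ⧸ I) (b' i) _
    show c₁ • (Submodule.Quotient.mk y : C) ∈ I • (⊤ : Submodule P C)
    rw [← Submodule.Quotient.mk_smul]
    have h2 : (Submodule.Quotient.mk (c₁ • y) : C) = (LinearMap.range α).mkQ (c₁ • y - α b') := by
      rw [map_sub, Submodule.mkQ_apply, Submodule.mkQ_apply,
        (Submodule.Quotient.mk_eq_zero _).mpr (LinearMap.mem_range_self α b'), sub_zero]
    rw [h2]
    have := Submodule.mem_map_of_mem (f := (LinearMap.range α).mkQ) hdiff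
    rw [Submodule.map_smul'', Submodule.map_top, Submodule.range_mkQ] at this
    exact this
  obtain ⟨p, hpm, -, hpc, hp0⟩ := LinearMap.exists_monic_and_natDegree_eq_and_coeff_mem_pow_and_aeval_eq_zero
    P (c₁ • LinearMap.id : Module.End P C) I hle
  let c := p.eval c₁
  have hck : ∀ y : M, c • y ∈ LinearMap.range α := fun y => by
    rw [← Submodule.Quotient.mk_eq_zero, Submodule.Quotient.mk_smul]
    have e1 : (c₁ • LinearMap.id : Module.End P C) = algebraMap P (Module.End P C) c₁ := by
      refine LinearMap.ext fun x => ?_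
      rfl
    have := LinearMap.congr_fun hp0 (Submodule.Quotient.mk y : C)
    rw [e1, Polynomial.aeval_algebraMap_apply, Polynomial.coe_aeval_eq_eval] at this
    simpa using this
  have hcI : c ∉ I := by
    intro hmem
    have h1 : Ideal.Quotient.mk I c = Ideal.Quotient.mk I c₁ ^ p.natDegree := by
      show Ideal.Quotient.mk I (p.eval c₁) = _
      rw [← Polynomial.eval_map_apply, Polynomial.eval_eq_sum_range, Finset.sum_eq_single p.natDegree]
      · rw [Polynomial.coeff_map, hpm.coeff_natDegree, map_one, one_mul]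
      · intro j hj hne
        rw [Polynomial.coeff_map, Ideal.Quotient.eq_zero_iff_mem.mpr
          (Ideal.pow_le_self (Nat.sub_ne_zero_of_lt (lt_of_le_of_ne (Finset.mem_range_succ_iff.mp
            (Finset.range_mono (Nat.succ_le_succ Polynomial.natDegree_map_le) hj)) hne)) (hpc j)), zero_mul]
      · intro hn
        rw [Polynomial.natDegree_map_of_leadingCoeff_ne_zero _ (by rw [hpm.leadingCoeff, map_one]; exact one_ne_zero)] at hn
        simp at hn
    rw [Ideal.Quotient.eq_zero_iff_mem.mpr hmem] at h1
    exact hc₀ (pow_eq_zero_iff'.mp h1.symm).1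
  -- the base change of the map
  let S := P ⊗[A] V
  haveI : IsNoetherianRing S := isNoetherianRing_bc
  let αS : (Fin r → S) →ₗ[S] S ⊗[P] M := Fintype.linearCombination S fun i => (1 : S) ⊗ₜ[P] v i
  have hαS : ∀ z : Fin r → P, αS (fun i => algebraMap P S (z i)) = (1 : S) ⊗ₜ[P] α z := fun z => by
    simp only [αS, α, Fintype.linearCombination_apply, algebraMap_smul, TensorProduct.tmul_sum, TensorProduct.tmul_smul]
  have hdiv : ∀ x w, αS x = ((1 : P) ⊗ₜ[A] π) • w → ∃ y, x = ((1 : P) ⊗ₜ[A] π) • y := fun x w hxw => by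
    choose y hy using fun i => Ideal.mem_span_singleton'.mp
      (mem_span_of_reduction v hv₀ hπ x ⟨w, by rw [← hxw, Fintype.linearCombination_apply]⟩ i)
    exact ⟨y, funext fun i => by rw [Pi.smul_apply, smul_eq_mul, mul_comm, hy]⟩
  let T := Localization.AtPrime Qp
  have hkill : ∀ (n : ℕ) (x : Fin r → S), (∃ t ∉ Qp, t • αS x = 0) →
      ∀ i, algebraMap S T (x i) ∈ IsLocalRing.maximalIdeal T ^ n := by
    intro n
    induction n with
    | zero => intro x _ i; rw [pow_zero, Ideal.one_eq_top]; exact Submodule.mem_top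
    | succ n ih =>
      rintro x ⟨t, ht, htx⟩ i
      obtain ⟨y, hy⟩ := hdiv (t • x) 0 (by rw [map_smul, htx, smul_zero])
      obtain ⟨t', ht', hty⟩ := htf (αS y) (by rw [← map_smul, ← hy, map_smul, htx])
      have h1 := congrArg (algebraMap S T) (congrFun hy i)
      rw [Pi.smul_apply, Pi.smul_apply, smul_eq_mul, smul_eq_mul, map_mul, map_mul] at h1
      have hu : IsUnit (algebraMap S T t) := IsLocalization.map_units T (⟨t, ht⟩ : Qp.primeCompl)
      rw [← hu.unit.inv_mul_cancel_left (algebraMap S T (x i)), IsUnit.unit_spec, h1, pow_succ']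
      exact Ideal.mul_mem_left _ _ (Ideal.mul_mem_mul
        ((IsLocalization.AtPrime.to_map_mem_maximal_iff T Qp _).mpr hQπ) (ih y ⟨t', ht', hty⟩ i))
  refine ⟨r, α, c, hcI, hck, fun z hz => ?_, ?_⟩
  · -- injectivity at `ξ`
    have hzero : ∀ i, algebraMap P (Localization.AtPrime ξ) (z i) = 0 := by
      intro i
      by_contra hne
      have hmem : algebraMap S T (algebraMap P S (z i)) ∈ (⊥ : Ideal T) := by
        rw [← Ideal.iInf_pow_eq_bot_of_isLocalRing (IsLocalRing.maximalIdeal T) (Ideal.IsPrime.ne_top inferInstance)]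
        exact Submodule.mem_iInf _ |>.mpr fun n => hkill n (fun i => algebraMap P S (z i)) ⟨1,
          fun h => Ideal.IsPrime.ne_top ‹Qp.IsPrime› ((Ideal.eq_top_iff_one _).mpr h),
          by rw [hαS, hz, TensorProduct.tmul_zero, smul_zero]⟩ i
      obtain ⟨⟨t, ht⟩, htz⟩ := (IsLocalization.map_eq_zero_iff Qp.primeCompl T _).mp (Ideal.mem_bot.mp hmem)
      let Pl := Localization.AtPrime ξ
      haveI : Module.Flat A Pl := Module.Flat.trans A P Pl
      let j : S →ₐ[A] Pl ⊗[A] V := Algebra.TensorProduct.map (IsScalarTower.toAlgHom A P Pl) (AlgHom.id A V)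
      have h0 : j t = 0 := eq_zero_of_mul_tmul hinj hne (j t) (by
        have := congrArg j htz
        rw [map_mul, map_zero] at this
        have e : j (algebraMap P S (z i)) = algebraMap P Pl (z i) ⊗ₜ[A] (1 : V) := rfl
        rw [e] at this
        exact this)
      let back : Pl →ₐ[A] T := IsLocalization.liftAlgHom (M := ξ.primeCompl) (f := IsScalarTower.toAlgHom A P T)
        fun s => by
          show IsUnit (algebraMap P T (s : P))
          rw [IsScalarTower.algebraMap_apply P S T]
          exact IsLocalization.map_units T (⟨algebraMap P S s, fun h => s.2 (hQξ ▸ h)⟩ : Qp.primeCompl)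
      let J : Pl ⊗[A] V →ₐ[A] T := Algebra.TensorProduct.lift back
        ((IsScalarTower.toAlgHom A S T).comp Algebra.TensorProduct.includeRight) fun _ _ => Commute.all _ _
      have hJ : ∀ s, J (j s) = algebraMap S T s := fun s => by
        induction s using TensorProduct.induction_on with
        | zero => simp
        | add a b ha hb => simp only [map_add, ha, hb]
        | tmul p u =>
          simp only [j, J, Algebra.TensorProduct.map_tmul, Algebra.TensorProduct.lift_tmul, AlgHom.coe_id, id_eq]
          show back (algebraMap P Pl p) * algebraMap S T ((1 : P) ⊗ₜ u) = _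
          rw [show back (algebraMap P Pl p) = algebraMap P T p from IsLocalization.lift_eq _ _,
            IsScalarTower.algebraMap_apply P S T, ← map_mul, Algebra.TensorProduct.algebraMap_apply]
          show algebraMap S T ((p ⊗ₜ[A] (1 : V) : P ⊗[A] V) * ((1 : P) ⊗ₜ[A] u)) = algebraMap S T (p ⊗ₜ[A] u)
          rw [Algebra.TensorProduct.tmul_mul_tmul, mul_one, one_mul]
      have h1 : algebraMap S T t = 0 := by rw [← hJ, h0, map_zero]
      exact (IsLocalization.map_units T (⟨t, ht⟩ : Qp.primeCompl)).ne_zero h1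
    choose s hs using fun i => (IsLocalization.map_eq_zero_iff ξ.primeCompl _ _).mp (hzero i)
    refine ⟨(∏ i, s i : ξ.primeCompl), (∏ i, s i : ξ.primeCompl).2, funext fun i => ?_⟩
    rw [Pi.smul_apply, smul_eq_mul, Pi.zero_apply, ← Finset.mul_prod_erase Finset.univ s (Finset.mem_univ i),
      Submonoid.coe_mul, mul_comm (s i : P), mul_assoc, hs i, mul_zero]
  · -- the cokernel
    intro w hw
    let q := (LinearMap.range α).mkQ.baseChange S
    obtain ⟨w, rfl⟩ := LinearMap.lTensor_surjective S (Submodule.mkQ_surjective (LinearMap.range α)) w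
    have hex : Function.Exact (α.lTensor S) ((LinearMap.range α).mkQ.lTensor S) :=
      lTensor_exact S (LinearMap.exact_map_mkQ_range α) (Submodule.mkQ_surjective _)
    have hsm : ∀ (a : S) y, (LinearMap.range α).mkQ.lTensor S (a • y) = a • (LinearMap.range α).mkQ.lTensor S y :=
      fun a y => map_smul q a y
    obtain ⟨z, hz⟩ := (hex _).mp ((hsm _ w).trans hw)
    obtain ⟨x, hx⟩ : ∃ x, αS x = α.lTensor S z := by
      clear hz
      induction z using TensorProduct.induction_on with
      | zero => exact ⟨0, by simp⟩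
      | add a b ha hb =>
        obtain ⟨x, hx⟩ := ha
        obtain ⟨y, hy⟩ := hb
        exact ⟨x + y, by rw [map_add, map_add, hx, hy]⟩
      | tmul a b =>
        exact ⟨a • fun i => algebraMap P S (b i), by
          rw [map_smul, hαS, TensorProduct.smul_tmul', smul_eq_mul, mul_one, LinearMap.lTensor_tmul]⟩
    obtain ⟨y, rfl⟩ := hdiv x w (hx.trans hz)
    obtain ⟨t, ht, htw⟩ := htf (w - αS y) (by rw [smul_sub, ← map_smul, hx, hz, sub_self])
    refine ⟨t, ht, ?_⟩
    rw [← hsm]
    have : (LinearMap.range α).mkQ.lTensor S (αS y) = 0 := by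
      have hq : ∀ x : Fin r → S, (LinearMap.range α).mkQ.lTensor S (αS x) = 0 := fun x => by
        rw [Fintype.linearCombination_apply, map_sum]
        refine Finset.sum_eq_zero fun i _ => ?_
        rw [hsm, LinearMap.lTensor_tmul, Submodule.mkQ_apply, (Submodule.Quotient.mk_eq_zero _).mpr
          (LinearMap.mem_range.mpr ⟨Pi.single i 1, by simp [α, Fintype.linearCombination_apply_single]⟩),
          TensorProduct.tmul_zero, smul_zero]
      exact hq y
    rw [smul_sub, sub_eq_zero] at htw
    rw [htw, hsm, this, smul_zero]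

set_option maxHeartbeats 800000 in
/-- Flatness at `ξ` from a step whose cokernel is flat. -/
theorem flat_of_step [Module.Flat A P] [Module A M] [IsScalarTower A P M] (ξ : Ideal P) [ξ.IsPrime]
    {r : ℕ} (α : (Fin r → P) →ₗ[P] M) (hker : ∀ z, α z = 0 → ∃ s ∉ ξ, s • z = 0)
    (h : Module.Flat A (LocalizedModule ξ.primeCompl (M ⧸ LinearMap.range α))) :
    Module.Flat A (LocalizedModule ξ.primeCompl M) := by
  rw [Groth.L20.flat_localizedModule_iff_forall] at h ⊢
  intro J z hz
  let mk := (LinearMap.range α).mkQ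
  have hnat : ∀ (N N' : Type u) [AddCommGroup N] [AddCommGroup N'] [Module P N] [Module P N'] [Module A N] [Module A N']
      [IsScalarTower A P N] [IsScalarTower A P N'] (f : N →ₗ[P] N') (y : N ⊗[A] J),
      J.subtype.lTensor N' (AlgebraTensorModule.rTensor A J f y) =
        AlgebraTensorModule.rTensor A A f (J.subtype.lTensor N y) := by
    intros
    rename_i y
    induction y using TensorProduct.induction_on with
    | zero => simp
    | tmul m j => simp
    | add a b ha hb => simp only [map_add, ha, hb]
  obtain ⟨t, ht, htz⟩ := h J (AlgebraTensorModule.rTensor A J mk z) (by rw [hnat, hz, map_zero])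
  have hex : Function.Exact (AlgebraTensorModule.rTensor A J α) (AlgebraTensorModule.rTensor A J mk) :=
    rTensor_exact J (f := α.restrictScalars A) (g := mk.restrictScalars A)
      (LinearMap.exact_map_mkQ_range α) (Submodule.mkQ_surjective _)
  obtain ⟨y, hy⟩ := (hex (t • z)).mp (by rw [map_smul, htz])
  have h1 : AlgebraTensorModule.rTensor A A α (J.subtype.lTensor (Fin r → P) y) = 0 := by
    rw [← hnat, hy]
    show (AlgebraTensorModule.lTensor P M J.subtype) (t • z) = 0
    rw [map_smul]
    show t • J.subtype.lTensor M z = 0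
    rw [hz, smul_zero]
  obtain ⟨s, hs, hsy⟩ := hker ((AlgebraTensorModule.rid A P (Fin r → P)) (J.subtype.lTensor (Fin r → P) y)) (by
    have : ∀ u : (Fin r → P) ⊗[A] A, α (AlgebraTensorModule.rid A P (Fin r → P) u) =
        AlgebraTensorModule.rid A P M (AlgebraTensorModule.rTensor A A α u) := fun u => by
      induction u using TensorProduct.induction_on with
      | zero => simp
      | tmul m j => simp [LinearMap.map_smul_of_tower]
      | add a b ha hb => simp only [map_add, ha, hb]
    rw [this, h1, map_zero])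
  haveI : Module.Flat A (Fin r → P) :=
    haveI : Module.Flat A (Fin r →₀ P) := by
      classical exact Module.Flat.of_linearEquiv (finsuppLEquivDirectSum A P (Fin r))
    Module.Flat.of_linearEquiv ((Finsupp.linearEquivFunOnFinite A P (Fin r)).symm)
  have h2 : s • y = 0 := by
    apply Module.Flat.lTensor_preserves_injective_linearMap (M := Fin r → P) J.subtype Subtype.val_injective
    rw [map_zero]
    apply (AlgebraTensorModule.rid A P (Fin r → P)).injective
    show AlgebraTensorModule.rid A P _ (AlgebraTensorModule.lTensor P _ J.subtype (s • y)) = _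
    rw [map_smul, map_smul, map_zero]
    exact hsy
  refine ⟨s * t, fun hmem => (Ideal.IsPrime.mem_or_mem ‹_› hmem).elim hs ht, ?_⟩
  rw [mul_smul, ← hy, ← map_smul, h2, map_zero]

end Groth.L07.FlatVal
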