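import Groth.Agent.L07.FlatVal.General
import Groth.Agent.L07.FlatVal.Scheme
import Groth.Agent.L06.Unibranch
import Mathlib.RingTheory.Valuation.LocalSubring
import Mathlib.RingTheory.Valuation.ValuationRing

/-!
Flatness over unibranch local domains from a base change along an injective local homomorphism (EGA IV 11.8).
-/

universe u

open TensorProduct

namespace Groth.L07.FlatVal

set_option autoImplicit false
set_option linter.style.haveILetI false
set_option maxSynthPendingDepth 3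

attribute [local instance] Algebra.TensorProduct.rightAlgebra

/-- A prime of a further base change over given compatible primes. -/
theorem exists_prime_rMap {A B V V' : Type u} [CommRing A] [CommRing B] [Algebra A B] [CommRing V] [Algebra A V]
    [CommRing V'] [Algebra A V'] [Algebra V V'] [IsScalarTower A V V'] (Q : Ideal (B ⊗[A] V)) [Q.IsPrime]
    (n : Ideal V') [n.IsPrime] (h : Q.comap (algebraMap V (B ⊗[A] V)) = n.comap (algebraMap V V')) :
    ∃ Q' : Ideal (B ⊗[A] V'), Q'.IsPrime ∧ Q'.comap (rMap A B V V').toRingHom = Q ∧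
      Q'.comap (algebraMap V' (B ⊗[A] V')) = n := by
  let S := B ⊗[A] V
  let S' := B ⊗[A] V'
  letI : Algebra S S' := (rMap A B V V').toRingHom.toAlgebra
  letI : Algebra V S' := ((algebraMap V' S').comp (algebraMap V V')).toAlgebra
  haveI : IsScalarTower V V' S' := IsScalarTower.of_algebraMap_eq fun _ => rfl
  haveI : IsScalarTower A V S' := IsScalarTower.of_algebraMap_eq fun a => by
    rw [IsScalarTower.algebraMap_apply A V' S', IsScalarTower.algebraMap_apply A V V']
    rfl
  haveI : IsScalarTower V S S' := IsScalarTower.of_algebraMap_eq fun v => by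
    rw [IsScalarTower.algebraMap_apply V V' S']
    exact (rMap_tmul 1 v).symm
  haveI : IsScalarTower B S S' := IsScalarTower.of_algebraMap_eq fun b => by
    show algebraMap B S' b = rMap A B V V' (b ⊗ₜ[A] (1 : V))
    rw [rMap_tmul, map_one]
    rfl
  haveI : Algebra.IsPushout A V B S := .symm inferInstance
  haveI : Algebra.IsPushout A V' B S' := .symm inferInstance
  haveI : Algebra.IsPushout V S V' S' :=
    .symm ((Algebra.IsPushout.comp_iff (R := A) (S := V) (R' := B) (S' := S) (T := V') (T' := S')).mp inferInstance)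
  exact Groth.L20.exists_prime_isPushout (R := V) (S := S) (R' := V') (S' := S') Q n h

/-- Primes over the same primes, for a radicial residue extension, agree. -/
theorem eq_of_radicial {A A₁ B : Type u} [CommRing A] [CommRing A₁] [Algebra A A₁] [CommRing B] [Algebra A B]
    (n₁ : Ideal A₁) [n₁.IsPrime] (e : ℕ) [ExpChar (A₁ ⧸ n₁) e]
    (hx : ∀ x : A₁, ∃ (n : ℕ) (a : A), x ^ e ^ n - algebraMap A A₁ a ∈ n₁)
    (Q₁ Q₂ : Ideal (B ⊗[A] A₁)) [Q₁.IsPrime] [Q₂.IsPrime]
    (h₁ : Q₁.comap (algebraMap A₁ (B ⊗[A] A₁)) = n₁) (h₂ : Q₂.comap (algebraMap A₁ (B ⊗[A] A₁)) = n₁)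
    (hB : Q₁.comap (Algebra.TensorProduct.includeLeftRingHom : B →+* B ⊗[A] A₁) =
      Q₂.comap (Algebra.TensorProduct.includeLeftRingHom : B →+* B ⊗[A] A₁)) : Q₁ = Q₂ := by
  have hexp : ∀ (Q : Ideal (B ⊗[A] A₁)) [Q.IsPrime], Q.comap (algebraMap A₁ (B ⊗[A] A₁)) = n₁ →
      ExpChar ((B ⊗[A] A₁) ⧸ Q) e := fun Q _ hQ =>
    expChar_of_injective_ringHom (f := Ideal.quotientMap Q (algebraMap A₁ (B ⊗[A] A₁)) hQ.ge)
      (Ideal.quotientMap_injective' hQ.le) e
  have key : ∀ s : B ⊗[A] A₁, ∃ (n : ℕ) (b : B),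
      s ^ e ^ n - b ⊗ₜ[A] (1 : A₁) ∈ Q₁ ∧ s ^ e ^ n - b ⊗ₜ[A] (1 : A₁) ∈ Q₂ := by
    have hmk : ∀ (Q : Ideal (B ⊗[A] A₁)) [Q.IsPrime], Q.comap (algebraMap A₁ (B ⊗[A] A₁)) = n₁ →
        ∀ (u v : B ⊗[A] A₁) (b c : B) (n m : ℕ), u ^ e ^ n - b ⊗ₜ[A] (1 : A₁) ∈ Q → v ^ e ^ m - c ⊗ₜ[A] (1 : A₁) ∈ Q →
          (u + v) ^ e ^ (n + m) - (b ^ e ^ m + c ^ e ^ n) ⊗ₜ[A] (1 : A₁) ∈ Q := by
      intro Q _ hQ u v b c n m hu hv
      haveI := hexp Q hQ
      rw [← Ideal.Quotient.eq] at hu hv ⊢
      rw [map_pow, map_add, add_pow_expChar_pow, ← map_pow, ← map_pow, TensorProduct.add_tmul, map_add]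
      congr 1
      · rw [pow_add, pow_mul, map_pow, hu, ← map_pow, Algebra.TensorProduct.tmul_pow, one_pow]
      · rw [pow_add, mul_comm, pow_mul, map_pow, hv, ← map_pow, Algebra.TensorProduct.tmul_pow, one_pow]
    intro s
    induction s using TensorProduct.induction_on with
    | zero => exact ⟨0, 0, by simp, by simp⟩
    | add u v hu hv =>
      obtain ⟨n, b, hb₁, hb₂⟩ := hu
      obtain ⟨m, c, hc₁, hc₂⟩ := hv
      exact ⟨n + m, b ^ e ^ m + c ^ e ^ n, hmk Q₁ h₁ u v b c n m hb₁ hc₁, hmk Q₂ h₂ u v b c n m hb₂ hc₂⟩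
    | tmul b x =>
      obtain ⟨n, a, ha⟩ := hx x
      refine ⟨n, b ^ e ^ n * algebraMap A B a, ?_⟩
      have h0 : (b ⊗ₜ[A] x) ^ e ^ n - (b ^ e ^ n * algebraMap A B a) ⊗ₜ[A] (1 : A₁) =
          ((b ^ e ^ n) ⊗ₜ[A] (1 : A₁)) * algebraMap A₁ (B ⊗[A] A₁) (x ^ e ^ n - algebraMap A A₁ a) := by
        rw [Algebra.TensorProduct.tmul_pow, map_sub, mul_sub, ← IsScalarTower.algebraMap_apply A A₁ (B ⊗[A] A₁),
          IsScalarTower.algebraMap_apply A B (B ⊗[A] A₁)]
        show _ = _ * ((1 : B) ⊗ₜ[A] (x ^ e ^ n)) - _ * (algebraMap A B a ⊗ₜ[A] (1 : A₁))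
        rw [Algebra.TensorProduct.tmul_mul_tmul, Algebra.TensorProduct.tmul_mul_tmul, mul_one, one_mul, mul_one]
      rw [h0]
      refine ⟨Q₁.mul_mem_left _ ?_, Q₂.mul_mem_left _ ?_⟩
      · rw [← h₁] at ha; exact ha
      · rw [← h₂] at ha; exact ha
  have hiff : ∀ (Q : Ideal (B ⊗[A] A₁)) [Q.IsPrime] (s : B ⊗[A] A₁) (n : ℕ) (b : B),
      s ^ e ^ n - b ⊗ₜ[A] (1 : A₁) ∈ Q → 0 < e → (s ∈ Q ↔ b ⊗ₜ[A] (1 : A₁) ∈ Q) := by
    intro Q _ s n b hb he
    refine ⟨fun hs => ?_, fun hb' => ?_⟩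
    · have := Q.sub_mem (Ideal.pow_mem_of_mem Q hs (e ^ n) (Nat.pow_pos he)) hb
      rwa [sub_sub_cancel] at this
    · have := Q.add_mem hb hb'
      rw [sub_add_cancel] at this
      exact Ideal.IsPrime.mem_of_pow_mem ‹_› _ this
  ext s
  obtain ⟨n, b, hb₁, hb₂⟩ := key s
  rw [hiff Q₁ s n b hb₁ (expChar_pos (A₁ ⧸ n₁) e), hiff Q₂ s n b hb₂ (expChar_pos (A₁ ⧸ n₁) e)]
  exact SetLike.ext_iff.mp hB b

variable {A : Type u} [CommRing A] [IsLocalRing A] [IsDomain A]

/-- The normalisation data of a unibranch domain. -/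
theorem unibranch_data (hA : CAlg2.IsUnibranch A) : IsLocalRing (integralClosure A (FractionRing A)) ∧
    (CAlg2.IsGeomUnibranch A → Groth.L06.Unibranch.PI (algebraMap A (integralClosure A (FractionRing A)))) := by
  let K := FractionRing A
  let N := integralClosure A K
  haveI : IsFractionRing N K := IsIntegralClosure.isFractionRing_of_finite_extension A K K N
  haveI : IsIntegrallyClosed N :=
    (isIntegrallyClosed_iff K).mpr fun {z} hz => ⟨⟨z, isIntegral_trans (R := A) z hz⟩, rfl⟩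
  have hint : (algebraMap A N).IsIntegral := fun x => Algebra.IsIntegral.isIntegral x
  have hker : RingHom.ker (algebraMap A N) ≤ nilradical A := fun a ha => by
    rw [show a = 0 from IsFractionRing.injective A K ((congrArg Subtype.val ha).trans (map_zero _).symm)]
    exact zero_mem _
  have hbir : ∀ x : N, ∃ b a : A, algebraMap A N b ≠ 0 ∧ algebraMap A N b * x = algebraMap A N a := fun x => by
    obtain ⟨a, b, hb, hab⟩ := IsFractionRing.div_surjective (A := A) x.1
    refine ⟨b, a, fun h => nonZeroDivisors.ne_zero hb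
      (IsFractionRing.injective A K ((congrArg Subtype.val h).trans (map_zero _).symm)), Subtype.ext ?_⟩
    show algebraMap A K b * x.1 = algebraMap A K a
    rw [← hab, mul_div_cancel₀ _ (IsFractionRing.to_map_ne_zero_of_mem_nonZeroDivisors hb)]
  exact ⟨(Groth.L06.Unibranch.isUnibranch_iff _ hint hker hbir).mp hA,
    fun h => ((Groth.L06.Unibranch.isGeomUnibranch_iff _ hint hker hbir).mp h).2⟩

/-- Finite birational extensions of a unibranch domain are local, with radicial residue extension when it is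
geometrically unibranch. -/
theorem stage_data (hA : CAlg2.IsUnibranch A) (A₁ : Subalgebra A (FractionRing A)) [Module.Finite A A₁] :
    IsLocalRing A₁ ∧ (CAlg2.IsGeomUnibranch A → ∀ (n₁ : Ideal A₁) [n₁.IsMaximal], ∃ e : ℕ, ExpChar (A₁ ⧸ n₁) e ∧
      ∀ x : A₁, ∃ (n : ℕ) (a : A), x ^ e ^ n - algebraMap A A₁ a ∈ n₁) := by
  let K := FractionRing A
  let N := integralClosure A K
  obtain ⟨hN, hPI⟩ := unibranch_data hA
  haveI := hN
  have hle : A₁ ≤ N := fun x hx => (Algebra.IsIntegral.isIntegral (R := A) (⟨x, hx⟩ : A₁)).map A₁.val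
  letI : Algebra A₁ N := (Subalgebra.inclusion hle).toRingHom.toAlgebra
  haveI : IsScalarTower A A₁ N := IsScalarTower.of_algebraMap_eq fun _ => rfl
  haveI : Algebra.IsIntegral A₁ N := Algebra.IsIntegral.tower_top A
  have hinj : Function.Injective (algebraMap A₁ N) := Subalgebra.inclusion_injective hle
  have hmax : ∀ (n₁ : Ideal A₁) [n₁.IsMaximal], (IsLocalRing.maximalIdeal N).comap (algebraMap A₁ N) = n₁ := by
    intro n₁ _
    obtain ⟨P, hP, hPn⟩ := Ideal.exists_ideal_over_maximal_of_isIntegral (S := N) n₁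
      (by rw [(RingHom.injective_iff_ker_eq_bot _).mp hinj]; exact bot_le)
    rw [← hPn, IsLocalRing.eq_maximalIdeal hP]
  refine ⟨IsLocalRing.of_unique_max_ideal ⟨(IsLocalRing.maximalIdeal N).comap (algebraMap A₁ N),
    Ideal.isMaximal_comap_of_isIntegral_of_isMaximal _, fun n₁ hn₁ => (@hmax n₁ hn₁).symm⟩, fun hg n₁ _ => ?_⟩
  have hm := hmax n₁
  let φ : (A₁ ⧸ n₁) →+* (N ⧸ IsLocalRing.maximalIdeal N) := Ideal.quotientMap _ (algebraMap A₁ N) hm.ge
  refine ⟨ringExpChar (N ⧸ IsLocalRing.maximalIdeal N), ?_, fun x => ?_⟩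
  · rw [Groth.L06.Unibranch.ringExpChar_of_hom φ (Ideal.quotientMap_injective' hm.le)]
    exact ringExpChar.expChar _
  · obtain ⟨n, a, ha⟩ := hPI hg (IsLocalRing.maximalIdeal N) (algebraMap A₁ N x)
    refine ⟨n, a, ?_⟩
    rw [← hm, Ideal.mem_comap, map_sub, map_pow, ← IsScalarTower.algebraMap_apply]
    exact ha

variable {A' : Type u} [CommRing A'] [IsLocalRing A'] [Algebra A A'] [IsLocalHom (algebraMap A A')]

/-- A valuation ring dominating both a local extension and a finite birational extension. -/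
theorem exists_valuation_dominating (hinj : Function.Injective (algebraMap A A')) (A₁ : Subalgebra A (FractionRing A))
    [Module.Finite A A₁] :
    ∃ (W : Type u) (_ : CommRing W) (_ : IsLocalRing W) (_ : Algebra A W) (_ : Algebra A' W) (_ : Algebra A₁ W),
      IsScalarTower A A' W ∧ IsScalarTower A A₁ W ∧ Function.Injective (algebraMap A₁ W) ∧
      (IsLocalRing.maximalIdeal W).comap (algebraMap A' W) = IsLocalRing.maximalIdeal A' ∧
      (IsLocalRing.maximalIdeal W).comap (algebraMap A W) = IsLocalRing.maximalIdeal A := by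
  classical
  let K := FractionRing A
  let S : Submonoid A' := (nonZeroDivisors A).map (algebraMap A A')
  have hdisj : Disjoint ((⊥ : Ideal A') : Set A') S := by
    rw [Set.disjoint_left]
    rintro x hx ⟨a, ha, rfl⟩
    exact nonZeroDivisors.ne_zero ha (hinj ((Ideal.mem_bot.mp hx).trans (map_zero _).symm))
  obtain ⟨p, hp, -, hpd⟩ := Ideal.exists_le_prime_disjoint _ _ hdisj
  let L := FractionRing (A' ⧸ p)
  let g : A' →+* L := (algebraMap (A' ⧸ p) L).comp (Ideal.Quotient.mk p)
  obtain ⟨W, hW, hloc⟩ := IsLocalRing.exists_factor_valuationRing g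
  haveI := hloc
  have hgA : Function.Injective (g.comp (algebraMap A A')) := by
    rw [injective_iff_map_eq_zero]
    intro a ha
    by_contra hne
    have h1 := IsFractionRing.injective (A' ⧸ p) L (ha.trans (map_zero _).symm)
    exact Set.disjoint_left.mp hpd (Ideal.Quotient.eq_zero_iff_mem.mp h1) ⟨a, mem_nonZeroDivisors_of_ne_zero hne, rfl⟩
  let ι : K →+* L := IsFractionRing.lift hgA
  have hι : ∀ a, ι (algebraMap A K a) = g (algebraMap A A' a) := fun a => IsFractionRing.lift_algebraMap hgA a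
  let j : A' →+* W := g.codRestrict W.toSubring hW
  let jA : A →+* W := j.comp (algebraMap A A')
  have hint : ∀ x : A₁, ι x.1 ∈ W := by
    intro x
    obtain ⟨P, hP, hP0⟩ := (Algebra.IsIntegral.isIntegral (R := A) x).map A₁.val
    have h1 : IsIntegral W (ι x.1) := by
      refine ⟨P.map jA, hP.map _, ?_⟩
      rw [Polynomial.eval₂_map, show (algebraMap W L).comp jA = ι.comp (algebraMap A K) from
        RingHom.ext fun a => (hι a).symm, ← Polynomial.hom_eval₂]
      exact (congrArg ι hP0).trans (map_zero _)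
    obtain ⟨w, hw⟩ := IsIntegrallyClosed.isIntegral_iff.mp h1
    exact hw ▸ w.2
  let j₁ : A₁ →+* W := (ι.comp A₁.val.toRingHom).codRestrict W.toSubring hint
  letI : Algebra A W := jA.toAlgebra
  letI : Algebra A' W := j.toAlgebra
  letI : Algebra A₁ W := j₁.toAlgebra
  refine ⟨W, inferInstance, inferInstance, inferInstance, inferInstance, inferInstance,
    IsScalarTower.of_algebraMap_eq fun a => rfl,
    IsScalarTower.of_algebraMap_eq fun a => Subtype.ext (hι a).symm,
    fun a b hab => Subtype.ext (ι.injective (congrArg Subtype.val hab)), ?_, ?_⟩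
  · exact ((IsLocalRing.local_hom_TFAE j).out 0 4).mp hloc
  · haveI : IsLocalHom jA := RingHom.isLocalHom_comp j (algebraMap A A')
    exact ((IsLocalRing.local_hom_TFAE jA).out 0 4).mp ‹IsLocalHom jA›

variable {B : Type u} [CommRing B] [Algebra A B] [Algebra.FinitePresentation A B] {M : Type u} [AddCommGroup M]
  [Module A M] [Module B M] [IsScalarTower A B M] [Module.FinitePresentation B M]

omit [IsLocalRing A] [IsDomain A] [Algebra.FinitePresentation A B] in
/-- The trace of a prime on the left factor does not change in a tower. -/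
theorem comap_rMap_includeLeft {V V' : Type u} [CommRing V] [Algebra A V] [CommRing V'] [Algebra A V'] [Algebra V V']
    [IsScalarTower A V V'] (Q : Ideal (B ⊗[A] V')) :
    (Q.comap (rMap A B V V').toRingHom).comap (Algebra.TensorProduct.includeLeftRingHom : B →+* B ⊗[A] V) =
      Q.comap (Algebra.TensorProduct.includeLeftRingHom : B →+* B ⊗[A] V') := by
  rw [Ideal.comap_comap]
  congr 1
  exact RingHom.ext fun b => (rMap_tmul b 1).trans (by rw [map_one]; rfl)

omit [IsLocalRing A] [IsDomain A] [Algebra.FinitePresentation A B] in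
/-- The trace of a prime on the right factor in a tower. -/
theorem comap_rMap_right {V V' : Type u} [CommRing V] [Algebra A V] [CommRing V'] [Algebra A V'] [Algebra V V']
    [IsScalarTower A V V'] (Q : Ideal (B ⊗[A] V')) :
    (Q.comap (rMap A B V V').toRingHom).comap (algebraMap V (B ⊗[A] V)) =
      (Q.comap (algebraMap V' (B ⊗[A] V'))).comap (algebraMap V V') := by
  rw [Ideal.comap_comap, Ideal.comap_comap]
  congr 1

omit [IsDomain A] [Algebra.FinitePresentation A B] in
theorem comap_algebraMap_of_left (q : Ideal B) (hqm : q.comap (algebraMap A B) = IsLocalRing.maximalIdeal A)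
    {V : Type u} [CommRing V] [Algebra A V] (Q : Ideal (B ⊗[A] V))
    (hQ : Q.comap (Algebra.TensorProduct.includeLeftRingHom : B →+* B ⊗[A] V) = q) :
    (Q.comap (algebraMap V (B ⊗[A] V))).comap (algebraMap A V) = IsLocalRing.maximalIdeal A := by
  rw [← hqm, ← hQ, Ideal.comap_comap, Ideal.comap_comap, ← IsScalarTower.algebraMap_eq]
  congr 1

/-- EGA IV 11.8: unibranch case. -/
theorem flat_of_unibranch (hA : CAlg2.IsUnibranch A) (hinj : Function.Injective (algebraMap A A'))
    (q : Ideal B) [q.IsPrime] (hqm : q.comap (algebraMap A B) = IsLocalRing.maximalIdeal A)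
    (h : ∀ Q : Ideal (B ⊗[A] A'), ∀ _ : Q.IsPrime,
      Q.comap (Algebra.TensorProduct.includeLeftRingHom : B →+* B ⊗[A] A') = q →
      Q.comap (algebraMap A' (B ⊗[A] A')) = IsLocalRing.maximalIdeal A' → FlatBC A B A' M Q) :
    Module.Flat A (LocalizedModule q.primeCompl M) := by
  refine flat_of_dominated q fun A₁ _ q₁ _ hq₁ => ?_
  haveI := (stage_data hA A₁).1
  haveI : Algebra.IsIntegral A A₁ := Algebra.IsIntegral.of_finite A A₁
  obtain ⟨W, _, _, _, _, _, _, _, hW₁, hWA', hWA⟩ := exists_valuation_dominating hinj A₁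
  have hcompat : q₁.comap (algebraMap A₁ (B ⊗[A] A₁)) = (IsLocalRing.maximalIdeal W).comap (algebraMap A₁ W) := by
    have h1 : (q₁.comap (algebraMap A₁ (B ⊗[A] A₁))).IsMaximal := by
      refine Ideal.isMaximal_of_isIntegral_of_isMaximal_comap (R := A) _ ?_
      rw [comap_algebraMap_of_left q hqm q₁ hq₁]
      infer_instance
    have h2 : ((IsLocalRing.maximalIdeal W).comap (algebraMap A₁ W)).IsMaximal := by
      refine Ideal.isMaximal_of_isIntegral_of_isMaximal_comap (R := A) _ ?_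
      rw [Ideal.comap_comap, ← IsScalarTower.algebraMap_eq, hWA]
      infer_instance
    rw [IsLocalRing.eq_maximalIdeal h1, IsLocalRing.eq_maximalIdeal h2]
  obtain ⟨Q, _, hQ1, hQ2⟩ := exists_prime_rMap (V := A₁) (V' := W) q₁ (IsLocalRing.maximalIdeal W) hcompat
  refine ⟨W, inferInstance, inferInstance, inferInstance, inferInstance, inferInstance, Q, inferInstance, hW₁, hQ2,
    hQ1, ?_⟩
  let Q' := Q.comap (rMap A B A' W).toRingHom
  haveI : Q'.IsPrime := Ideal.IsPrime.comap _
  refine FlatBC.trans (h Q' inferInstance ?_ ?_) Q rfl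
  · rw [comap_rMap_includeLeft, ← hq₁, ← hQ1, comap_rMap_includeLeft]
  · rw [comap_rMap_right, hQ2, hWA']

/-- EGA IV 11.8: geometrically unibranch case. -/
theorem flat_of_geomUnibranch (hA : CAlg2.IsGeomUnibranch A) (hinj : Function.Injective (algebraMap A A'))
    (q : Ideal B) [q.IsPrime] (hqm : q.comap (algebraMap A B) = IsLocalRing.maximalIdeal A)
    (h : ∃ (Q : Ideal (B ⊗[A] A')) (_ : Q.IsPrime),
      Q.comap (Algebra.TensorProduct.includeLeftRingHom : B →+* B ⊗[A] A') = q ∧
      Q.comap (algebraMap A' (B ⊗[A] A')) = IsLocalRing.maximalIdeal A' ∧ FlatBC A B A' M Q) :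
    Module.Flat A (LocalizedModule q.primeCompl M) := by
  obtain ⟨Q', _, hQ'q, hQ'm, hflat⟩ := h
  refine flat_of_dominated q fun A₁ _ q₁ _ hq₁ => ?_
  obtain ⟨hloc, hrad⟩ := stage_data hA.1 A₁
  haveI := hloc
  haveI : Algebra.IsIntegral A A₁ := Algebra.IsIntegral.of_finite A A₁
  obtain ⟨W, _, _, _, _, _, _, _, hW₁, hWA', hWA⟩ := exists_valuation_dominating hinj A₁
  obtain ⟨Q, _, hQ1, hQ2⟩ := exists_prime_rMap (V := A') (V' := W) Q' (IsLocalRing.maximalIdeal W) (hQ'm.trans hWA'.symm)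
  refine ⟨W, inferInstance, inferInstance, inferInstance, inferInstance, inferInstance, Q, inferInstance, hW₁, hQ2,
    ?_, FlatBC.trans hflat Q hQ1⟩
  let Q₁ := Q.comap (rMap A B A₁ W).toRingHom
  haveI : Q₁.IsPrime := Ideal.IsPrime.comap _
  have hleft : Q₁.comap (Algebra.TensorProduct.includeLeftRingHom : B →+* B ⊗[A] A₁) = q := by
    rw [comap_rMap_includeLeft, ← hQ'q, ← hQ1, comap_rMap_includeLeft]
  have hn : ∀ (P : Ideal (B ⊗[A] A₁)) [P.IsPrime],
      P.comap (Algebra.TensorProduct.includeLeftRingHom : B →+* B ⊗[A] A₁) = q →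
      P.comap (algebraMap A₁ (B ⊗[A] A₁)) = IsLocalRing.maximalIdeal A₁ := by
    intro P _ hP
    refine IsLocalRing.eq_maximalIdeal (Ideal.isMaximal_of_isIntegral_of_isMaximal_comap (R := A) _ ?_)
    rw [comap_algebraMap_of_left q hqm P hP]
    infer_instance
  obtain ⟨e, he, hx⟩ := hrad hA (IsLocalRing.maximalIdeal A₁)
  haveI := he
  exact eq_of_radicial (IsLocalRing.maximalIdeal A₁) e hx Q₁ q₁ (hn Q₁ hleft) (hn q₁ hq₁) (hleft.trans hq₁.symm)

end Groth.L07.FlatVal
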